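import Cfsg.Agent.SL2Trace.Order
import Cfsg.Agent.Linear.SylowChar
import Cfsg.Agent.OddOrder.AppA.GL2
import Mathlib.Tactic

/-!
# Finite subgroups of `SL₂(K)` containing two transvections: centralizers

`SL2Rep` is a finite group `G` faithfully represented in `SL₂(K)`, `char K = p` odd, containing an
upper and a lower transvection.  Facts on centralizers of non-central elements.
-/

set_option autoImplicit false

namespace CfsgLib.LocalEven.SL2T

open Matrix Subgroup CfsgLib.Linear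
open scoped MatrixGroups

variable {K : Type*} [Field K]

/-- Scalar elements. -/
theorem not_smul_of_not_center {g : SL(2, K)} (hg : g ≠ 1 ∧ g ≠ -1) :
    ∀ c : K, g.1 ≠ c • 1 := by
  intro c hc
  have h := g.2
  rw [hc, det_smul, det_one, mul_one, Fintype.card_fin] at h
  rcases sq_eq_one_iff.mp h with rfl | rfl
  · exact hg.1 (Subtype.ext (by rw [hc, one_smul]; rfl))
  · exact hg.2 (Subtype.ext (by rw [hc, neg_one_smul]; rfl))

/-- A nilpotent `2 × 2` matrix squares to zero. -/
theorem sq_eq_zero_of_pow {N : Matrix (Fin 2) (Fin 2) K} {m : ℕ} (h : N ^ m = 0) : N * N = 0 := by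
  have hdet : N.det = 0 := by
    by_contra hne
    exact pow_ne_zero m hne (by rw [← det_pow, h, det_zero])
  have hNN : N * N = N.trace • N := by
    rw [CfsgLib.OddOrder.GL2.sq_eq N, hdet, zero_smul, sub_zero]
  by_cases ht : N.trace = 0
  · rw [hNN, ht, zero_smul]
  have hpow : ∀ k, N ^ (k + 1) = N.trace ^ k • N := by
    intro k
    induction k with
    | zero => simp
    | succ k ih => rw [pow_succ, ih, smul_mul_assoc, hNN, smul_smul, ← pow_succ]
  have h1 := hpow m
  rw [pow_succ, h, zero_mul, eq_comm, smul_eq_zero] at h1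
  rw [h1.resolve_left (pow_ne_zero _ ht), zero_mul]

/-- The trace of a transvection is `2`. -/
theorem trace_eq_two {g : SL(2, K)} (h : (g.1 - 1) * (g.1 - 1) = 0) : g.1.trace = 2 := by
  have hd := g.2
  have h0 : (g.1 - 1).det = 0 := by
    have := congrArg Matrix.det h
    rw [det_mul, det_zero, mul_self_eq_zero] at this
    exact this
  rw [det_fin_two] at hd h0
  simp at h0
  rw [Matrix.trace_fin_two]
  linear_combination hd - h0

theorem upperUni_add (b c : K) : upperUni b * upperUni c = upperUni (b + c) :=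
  (Matrix.SpecialLinearGroup.transvection_add _ _ _).symm

theorem upperUni_zero : upperUni (0 : K) = 1 :=
  Matrix.SpecialLinearGroup.transvection_coeff_zero _

theorem upperUni_pow (b : K) (n : ℕ) : upperUni b ^ n = upperUni ((n : K) * b) := by
  induction n with
  | zero => simp [upperUni_zero]
  | succ n ih => rw [pow_succ, ih, upperUni_add]; congr 1; push_cast; ring

theorem upperUni_neg (b : K) : (upperUni b)⁻¹ = upperUni (-b) := by
  rw [inv_eq_iff_mul_eq_one, upperUni_add, add_neg_cancel, upperUni_zero]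

theorem lowerUni_add (b c : K) : lowerUni b * lowerUni c = lowerUni (b + c) :=
  (Matrix.SpecialLinearGroup.transvection_add _ _ _).symm

theorem coe_neg' (g : SL(2, K)) : (-g).1 = -g.1 := rfl

/-- A finite group in `SL₂(K)` with an upper and a lower transvection. -/
structure SL2Rep (K : Type*) [Field K] (p : ℕ) (G : Type*) [Group G] where
  ρ : G →* SL(2, K)
  inj : Function.Injective ρ
  u : G
  l : G
  a : K
  a_ne : a ≠ 0
  hu : ρ u = upperUni a
  hl : ρ l = lowerUni 1

namespace SL2Rep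

variable {p : ℕ} {G : Type*} [Group G] (R : SL2Rep K p G)

/-- The scalar elements. -/
def zc : Subgroup G := (Subgroup.center SL(2, K)).comap R.ρ

theorem mem_zc {x : G} : x ∈ R.zc ↔ R.ρ x = 1 ∨ R.ρ x = -1 := by
  rw [zc, mem_comap]
  exact CfsgLib.SL2Trace.mem_center_iff_eq _

theorem not_smul {x : G} (hx : x ∉ R.zc) : ∀ c : K, (R.ρ x).1 ≠ c • 1 :=
  not_smul_of_not_center (not_or.mp fun h => hx (R.mem_zc.mpr h))

theorem zc_comm {z : G} (hz : z ∈ R.zc) (y : G) : y * z = z * y :=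
  R.inj (by rw [map_mul, map_mul]; exact (Subgroup.mem_center_iff.mp hz) _)

/-- The centralizer of an element. -/
def cent (_R : SL2Rep K p G) (x : G) : Subgroup G := Subgroup.centralizer ({x} : Set G)

theorem mem_cent {x y : G} : y ∈ R.cent x ↔ y * x = x * y := Subgroup.mem_centralizer_singleton_iff

theorem self_mem_cent (x : G) : x ∈ R.cent x := R.mem_cent.mpr rfl

theorem zc_le_cent (x : G) : R.zc ≤ R.cent x := fun _ hz => R.mem_cent.mpr (R.zc_comm hz x).symm

theorem commute_trans {x y w : G} (hx : x ∉ R.zc) (hy : y * x = x * y) (hw : w * x = x * w) :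
    y * w = w * y := by
  have h1 := congrArg (fun g => (R.ρ g).1) hy
  have h2 := congrArg (fun g => (R.ρ g).1) hw
  simp only [map_mul, Matrix.SpecialLinearGroup.coe_mul] at h1 h2
  obtain ⟨a, b, hya⟩ := CfsgLib.OddOrder.GL2.exists_affine_of_commute (R.not_smul hx) h1
  obtain ⟨c, d, hwc⟩ := CfsgLib.OddOrder.GL2.exists_affine_of_commute (R.not_smul hx) h2
  refine R.inj (Subtype.ext ?_)
  rw [map_mul, map_mul, Matrix.SpecialLinearGroup.coe_mul, Matrix.SpecialLinearGroup.coe_mul, hya,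
    hwc]
  exact CfsgLib.OddOrder.GL2.commute_affine a b c d

theorem cent_eq_of_mem {x y : G} (hx : x ∉ R.zc) (hy : y ∈ R.cent x) (hyz : y ∉ R.zc) :
    R.cent y = R.cent x := by
  have hy' := R.mem_cent.mp hy
  ext w
  rw [R.mem_cent, R.mem_cent]
  exact ⟨fun hw => R.commute_trans hyz hw hy'.symm, fun hw => R.commute_trans hx hw hy'⟩

theorem cent_conj (g x : G) :
    R.cent (g * x * g⁻¹) = (R.cent x).map (MulAut.conj g).toMonoidHom := by
  ext w
  constructor
  · intro hw
    refine ⟨g⁻¹ * w * g, R.mem_cent.mpr ?_, by simp [mul_assoc]⟩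
    calc g⁻¹ * w * g * x = g⁻¹ * (w * (g * x * g⁻¹)) * g := by group
      _ = g⁻¹ * (g * x * g⁻¹ * w) * g := by rw [R.mem_cent.mp hw]
      _ = x * (g⁻¹ * w * g) := by group
  · rintro ⟨y, hy, rfl⟩
    refine R.mem_cent.mpr ?_
    simp only [MulEquiv.coe_toMonoidHom, MulAut.conj_apply]
    calc g * y * g⁻¹ * (g * x * g⁻¹) = g * (y * x) * g⁻¹ := by group
      _ = g * (x * y) * g⁻¹ := by rw [R.mem_cent.mp hy]
      _ = _ := by group

theorem conj_mem_zc {g x : G} (hx : x ∈ R.zc) : g * x * g⁻¹ ∈ R.zc := by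
  rw [R.zc_comm hx, mul_inv_cancel_right]; exact hx

theorem conj_mem_zc_iff {g x : G} : g * x * g⁻¹ ∈ R.zc ↔ x ∈ R.zc := by
  refine ⟨fun h => ?_, R.conj_mem_zc⟩
  have := R.conj_mem_zc (g := g⁻¹) h
  simpa [mul_assoc] using this

/-- The trace. -/
def tr (x : G) : K := (R.ρ x).1.trace

theorem tr_conj (g x : G) : R.tr (g * x * g⁻¹) = R.tr x := by
  rw [tr, tr, map_mul, map_mul, map_inv, Matrix.SpecialLinearGroup.coe_mul,
    Matrix.SpecialLinearGroup.coe_mul, Matrix.trace_mul_cycle, ← Matrix.SpecialLinearGroup.coe_mul,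
    inv_mul_cancel, Matrix.SpecialLinearGroup.coe_one, Matrix.one_mul]

/-- Conjugates of a semisimple element inside its centralizer. -/
theorem conj_eq_or_eq_inv (h2 : (2 : K) ≠ 0) {g x : G} (hx : x ∉ R.zc) (ht : R.tr x ^ 2 ≠ 4)
    (h : g * x * g⁻¹ ∈ R.cent x) : g * x * g⁻¹ = x ∨ g * x * g⁻¹ = x⁻¹ := by
  have h1 := congrArg (fun w => (R.ρ w).1) (R.mem_cent.mp h)
  have htr := R.tr_conj g x
  generalize g * x * g⁻¹ = y at h1 htr ⊢
  simp only [map_mul, Matrix.SpecialLinearGroup.coe_mul] at h1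
  obtain ⟨α, β, hy⟩ := CfsgLib.OddOrder.GL2.exists_affine_of_commute (R.not_smul hx) h1
  have hdy := (R.ρ y).2
  have hdx := (R.ρ x).2
  simp only [tr, hy] at htr ht
  rw [hy] at hdy
  rw [det_fin_two] at hdy hdx
  rw [Matrix.trace_fin_two, Matrix.trace_fin_two] at htr
  rw [Matrix.trace_fin_two] at ht
  simp at htr hdy
  set t := (R.ρ x).1 0 0 + (R.ρ x).1 1 1 with hT
  have hα : (β ^ 2 - 1) * (t ^ 2 - 4) = 0 := by
    linear_combination
      (4 * (-1 : K)) * hdy + (4 * β ^ 2) * hdx + (t * (1 + β) + 2 * α) * htr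
  have hβ := (mul_eq_zero.mp hα).resolve_right (sub_ne_zero.mpr ht)
  rcases sq_eq_one_iff.mp (sub_eq_zero.mp hβ) with rfl | rfl
  · left
    have hα0 : 2 * α = 0 := by linear_combination htr
    refine R.inj (Subtype.ext ?_)
    rw [hy, (mul_eq_zero.mp hα0).resolve_left h2, zero_smul, zero_add, one_smul]
  · right
    have hαt : α = t := by
      refine mul_left_cancel₀ h2 ?_
      linear_combination htr
    refine R.inj (Subtype.ext ?_)
    rw [map_inv, Matrix.SpecialLinearGroup.coe_inv, hy, adjugate_fin_two, hαt]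
    ext i j
    fin_cases i <;> fin_cases j <;> simp [hT]

theorem card_centralizer_le_normalizer [Finite G] (h2 : (2 : K) ≠ 0) {x : G} (hx : x ∉ R.zc)
    (ht : R.tr x ^ 2 ≠ 4) :
    Nat.card ↥(Subgroup.normalizer (R.cent x : Set G)) = Nat.card ↥(R.cent x) ∨
      ∃ w, w * x * w⁻¹ = x⁻¹ ∧
        Nat.card ↥(Subgroup.normalizer (R.cent x : Set G)) = 2 * Nat.card ↥(R.cent x) := by
  classical
  set N := Subgroup.normalizer (R.cent x : Set G) with hN
  by_cases hw : ∃ w ∈ N, w ∉ R.cent x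
  swap
  · push Not at hw
    left
    rw [show N = R.cent x from le_antisymm hw le_normalizer]
  obtain ⟨w, hwN, hwC⟩ := hw
  have key : ∀ n ∈ N, n ∉ R.cent x → n * x * n⁻¹ = x⁻¹ := by
    intro n hn hnC
    rcases R.conj_eq_or_eq_inv h2 hx ht ((mem_normalizer_iff.mp hn x).mp (R.self_mem_cent x))
      with h | h
    · exact absurd (R.mem_cent.mpr (mul_inv_eq_iff_eq_mul.mp h)) hnC
    · exact h
  refine Or.inr ⟨w, key w hwN hwC, ?_⟩
  have hidx : (R.cent x).relIndex N = 2 := by
    refine Subgroup.index_eq_two_iff.mpr ⟨⟨w, hwN⟩, fun b => ?_⟩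
    rw [xor_iff_iff_not]
    simp only [mem_subgroupOf, Subgroup.coe_mul]
    constructor
    · intro hbw hb
      exact hwC (by simpa using mul_mem (inv_mem hb) hbw)
    · intro hb
      have h1 := key b b.2 hb
      refine R.mem_cent.mpr (mul_inv_eq_iff_eq_mul.mp ?_)
      calc (b : G) * w * x * ((b : G) * w)⁻¹ = b * (w * x * w⁻¹) * (b : G)⁻¹ := by group
        _ = b * x⁻¹ * (b : G)⁻¹ := by rw [key w hwN hwC]
        _ = (b * x * (b : G)⁻¹)⁻¹ := by group
        _ = x := by rw [h1, inv_inv]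
  rw [← Subgroup.card_mul_index ((R.cent x).subgroupOf N),
    Nat.card_congr (Subgroup.subgroupOfEquivOfLe le_normalizer).toEquiv,
    show ((R.cent x).subgroupOf N).index = 2 from hidx, mul_comm]

/-- The upper transvections. -/
def A : Subgroup G := (upperSL (F := K)).comap R.ρ

theorem mem_A {x : G} : x ∈ R.A ↔ ∃ b, R.ρ x = upperUni b := by
  rw [A, mem_comap, mem_upperSL]
  exact ⟨fun ⟨b, h⟩ => ⟨b, h.symm⟩, fun ⟨b, h⟩ => ⟨b, h.symm⟩⟩

theorem u_mem_A : R.u ∈ R.A := R.mem_A.mpr ⟨R.a, R.hu⟩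

theorem A_inf_zc (h2 : (2 : K) ≠ 0) : R.A ⊓ R.zc = ⊥ := by
  rw [eq_bot_iff]
  rintro x ⟨hA, hz⟩
  obtain ⟨b, hb⟩ := R.mem_A.mp hA
  rw [mem_bot]
  refine R.inj ?_
  rw [map_one]
  rcases R.mem_zc.mp hz with h | h
  · exact h
  · exfalso
    rw [hb] at h
    have := congrArg (fun g : SL(2, K) => g.1 0 0) h
    simp [upperUni_val] at this
    exact h2 (by linear_combination this)

theorem u_not_zc (h2 : (2 : K) ≠ 0) : R.u ∉ R.zc := fun h => by
  have h1 : R.u ∈ R.A ⊓ R.zc := ⟨R.u_mem_A, h⟩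
  rw [R.A_inf_zc h2, mem_bot] at h1
  have := R.hu
  rw [h1, map_one, ← upperUni_zero] at this
  exact R.a_ne (upperUni_injective this).symm

theorem mem_cent_u {x : G} : x ∈ R.cent R.u ↔ ∃ b, R.ρ x = upperUni b ∨ R.ρ x = -upperUni b := by
  rw [R.mem_cent]
  constructor
  · intro h
    have h1 := congrArg (fun w => (R.ρ w).1) h
    simp only [map_mul, Matrix.SpecialLinearGroup.coe_mul, R.hu, upperUni_val] at h1
    have e00 := congrFun (congrFun h1 0) 0
    have e01 := congrFun (congrFun h1 0) 1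
    simp [Matrix.mul_apply, Fin.sum_univ_two] at e00 e01
    have hc : (R.ρ x).1 1 0 = 0 := (e00.resolve_left R.a_ne)
    have hd : (R.ρ x).1 1 1 = (R.ρ x).1 0 0 := by
      refine mul_left_cancel₀ R.a_ne ?_
      linear_combination -e01
    have hdet := (R.ρ x).2
    rw [det_fin_two, hc, hd, mul_zero, sub_zero] at hdet
    rcases sq_eq_one_iff.mp ((pow_two _).trans hdet) with h | h
    · refine ⟨(R.ρ x).1 0 1, Or.inl (Subtype.ext ?_)⟩
      rw [upperUni_val]
      ext i j
      fin_cases i <;> fin_cases j <;> simp [h, hc, hd]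
    · refine ⟨-(R.ρ x).1 0 1, Or.inr (Subtype.ext ?_)⟩
      rw [coe_neg', upperUni_val]
      ext i j
      fin_cases i <;> fin_cases j <;> simp [h, hc, hd]
  · rintro ⟨b, h | h⟩ <;> refine R.inj ?_ <;>
      rw [map_mul, map_mul, R.hu, h] <;> simp [upperUni_add, add_comm]

theorem A_le_cent_u : R.A ≤ R.cent R.u := fun _ hx => by
  obtain ⟨b, hb⟩ := R.mem_A.mp hx
  exact R.mem_cent_u.mpr ⟨b, Or.inl hb⟩

end SL2Rep

end CfsgLib.LocalEven.SL2T
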