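import Cfsg.Agent.LocalEven.SL2Transvections.Count

/-!
# Finite subgroups of `SL₂(K)` containing two transvections: the two cases

`dichotomy`: the index of the Borel subgroup is `|A| + 1`, or `|G/Z| = 60` with `|A| = 3`.
-/

set_option autoImplicit false

namespace CfsgLib.LocalEven.SL2T

open Matrix Subgroup CfsgLib.Linear
open scoped MatrixGroups

/-- The arithmetic of the class equation. -/
theorem arith_aux {n q d e k : ℕ} (hn : n = 1 + k * q) (hk : 2 ≤ k) (hq : 3 ≤ q) (hd : d + 1 ≤ q)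
    (he : 2 ≤ e)
    (h : n * q * d + 2 * n * e = e * n * q + 2 * e) : q = 3 ∧ d = 2 ∧ n = 10 ∧ e = 5 := by
  zify at *
  set D : ℤ := (q : ℤ) * d + 2 * e - e * q with hD
  have hnD : (n : ℤ) * D = 2 * e := by rw [hD]; linear_combination h
  have h2d : 2 * (d : ℤ) = D * (1 + k * (q - 2)) := by
    refine mul_left_cancel₀ (show (q : ℤ) ≠ 0 by linarith) ?_
    have e1 : 2 * (q : ℤ) * d = 2 * D + (n * D) * (q - 2) := by rw [hnD, hD]; ring
    rw [hn] at e1
    linear_combination e1
  have hD1 : 0 < D := by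
    by_contra hc
    push Not at hc
    have hb : 0 < 1 + (k : ℤ) * (q - 2) := by nlinarith
    have : 2 * (d : ℤ) ≤ 0 := h2d ▸ mul_nonpos_of_nonpos_of_nonneg hc hb.le
    have hd0 : (d : ℤ) = 0 := by linarith [Int.natCast_nonneg d]
    have hD0 : D = 0 := by
      rw [hd0, mul_zero] at h2d
      exact (mul_eq_zero.mp h2d.symm).resolve_right hb.ne'
    rw [hD0, mul_zero] at hnD
    linarith
  have hD2 : D = 1 := by
    by_contra hne
    have h4 : (2 : ℤ) ≤ D := by omega
    have h5 : 2 * ((q : ℤ) - 2) ≤ k * (q - 2) := mul_le_mul_of_nonneg_right hk (by linarith)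
    have h6 : 2 * (1 + (k : ℤ) * (q - 2)) ≤ D * (1 + k * (q - 2)) :=
      mul_le_mul_of_nonneg_right h4 (by linarith)
    linarith
  have hq3 : (q : ℤ) = 3 := by
    rw [hD2, one_mul] at h2d
    rcases eq_or_lt_of_le hk with hk2 | hk3
    · rw [← hk2] at h2d; omega
    · nlinarith
  rw [hD2, one_mul, hq3] at h2d
  rw [hq3] at hd hn
  have hk3 : (k : ℤ) = 3 := by omega
  have hd2 : (d : ℤ) = 2 := by omega
  rw [hk3] at hn
  rw [hD2, mul_one] at hnD
  exact ⟨hq3, hd2, by linarith, by linarith⟩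

variable {K : Type*} [Field K] {p : ℕ} {G : Type*} [Group G] (R : SL2Rep K p G)
  [hp : Fact p.Prime] [CharP K p]

namespace SL2Rep

theorem three_le_card_A [Finite G] (hp2 : p ≠ 2) : 3 ≤ Nat.card ↥R.A := by
  have hne : orderOf R.u = p := orderOf_eq_prime (R.pow_eq_one_of_mem_A R.u_mem_A) fun h =>
    R.u_not_zc (two_ne_zero_of_odd hp2) (h ▸ one_mem _)
  have h1 : orderOf R.u ∣ Nat.card ↥R.A := by
    have := orderOf_dvd_natCard (⟨R.u, R.u_mem_A⟩ : ↥R.A)
    rwa [Subgroup.orderOf_mk] at this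
  have h2 := Nat.le_of_dvd Nat.card_pos h1
  have h3 := (Fact.out : p.Prime).two_le
  omega

theorem mem_cent_u_of_mem_bor {x : G} (hx : x ∈ R.bor) (h : (R.ρ x).1 0 0 ^ 2 = 1) :
    x ∈ R.cent R.u := by
  refine R.mem_cent.mpr ?_
  have h1 := R.conj_upper hx R.hu
  rw [h, one_mul, ← R.hu] at h1
  exact mul_inv_eq_iff_eq_mul.mp (R.inj h1)

/-- A torus covering the Borel subgroup modulo `C(u)`. -/
theorem exists_torus [Finite G] (hp2 : p ≠ 2) (hd : 2 ≤ R.d) :
    ∃ x ∈ R.semi, Nat.card ↥(R.cent x) = Nat.card ↥R.zc * R.d := by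
  classical
  have h2 := two_ne_zero_of_odd (K := K) hp2
  have hne : ∀ g : ↥R.bor, (R.ρ g.1).1 0 0 * (R.ρ g.1).1 1 1 = 1 := fun g => by
    have := (R.ρ g.1).2
    rwa [det_fin_two, R.mem_bor.mp g.2, mul_zero, sub_zero] at this
  let χ : ↥R.bor →* Kˣ := MonoidHom.mk'
    (fun g => (Units.mkOfMulEqOne _ _ (hne g)) ^ 2) fun g h => by
      apply Units.ext
      simp only [Units.val_pow_eq_pow_val, Units.val_mul, Units.val_mkOfMulEqOne]
      rw [Subgroup.coe_mul, map_mul, Matrix.SpecialLinearGroup.coe_mul]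
      simp [Matrix.mul_apply, Fin.sum_univ_two, R.mem_bor.mp h.2, mul_pow]
  have hχ : ∀ g : ↥R.bor, (χ g : K) = (R.ρ g.1).1 0 0 ^ 2 := fun g => rfl
  haveI : Finite χ.range := Set.finite_range χ |>.to_subtype
  obtain ⟨⟨c, hc⟩, hgen⟩ := IsCyclic.exists_generator (α := χ.range)
  obtain ⟨x, rfl⟩ := hc
  have hxC : (x : G) ∉ R.cent R.u := by
    intro hxu
    have hx1 : χ x = 1 := by
      apply Units.ext
      rw [hχ, Units.val_one]
      obtain ⟨b, hb | hb⟩ := R.mem_cent_u.mp hxu <;> simp [hb, upperUni_val]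
    have hall : ∀ g : ↥R.bor, (g : G) ∈ R.cent R.u := fun g => by
      obtain ⟨k, hk⟩ := Subgroup.mem_zpowers_iff.mp (hgen ⟨χ g, g, rfl⟩)
      have hk' : χ g = χ x ^ k := (congrArg Subtype.val hk).symm.trans (by simp)
      rw [hx1, _root_.one_zpow] at hk'
      exact R.mem_cent_u_of_mem_bor g.2 (by rw [← hχ, hk', Units.val_one])
    have hd1 : R.d = 1 := relIndex_eq_one.mpr fun g hg => hall ⟨g, hg⟩
    omega
  have hxz : (x : G) ∉ R.zc := fun h => hxC (R.zc_le_cent _ h)
  have hxs : (x : G) ∈ R.semi := by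
    refine ⟨hxz, fun ht => hxC (R.mem_cent_u_of_mem_bor x.2 ?_)⟩
    have hd' := hne x
    rw [tr, Matrix.trace_fin_two] at ht
    have h5 : ((R.ρ x.1).1 0 0 ^ 2 - 1) ^ 2 = 0 := by
      linear_combination (R.ρ x.1).1 0 0 ^ 2 * ht +
        (-2 * (R.ρ x.1).1 0 0 ^ 2 - (R.ρ x.1).1 0 0 * (R.ρ x.1).1 1 1 - 1) * hd'
    exact sub_eq_zero.mp (pow_eq_zero_iff two_ne_zero |>.mp h5)
  have hCB : R.cent x ≤ R.bor := fun y hy => by
    have h1 := congrArg (fun w => (R.ρ w).1) (R.mem_cent.mp hy)
    simp only [map_mul, Matrix.SpecialLinearGroup.coe_mul] at h1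
    obtain ⟨a, b, hab⟩ := CfsgLib.OddOrder.GL2.exists_affine_of_commute (R.not_smul hxz) h1
    rw [R.mem_bor, hab]
    simp [R.mem_bor.mp x.2]
  refine ⟨x, hxs, ?_⟩
  have hinf : R.cent x ⊓ R.cent R.u = R.zc := by
    refine le_antisymm (fun y hy => ?_) (le_inf (R.zc_le_cent _) (R.zc_le_cent _))
    by_contra hyz
    exact hxC (R.cent_eq_cent_u hp2 hy.2 hyz ▸
      (R.cent_eq_of_mem hxz hy.1 hyz).symm ▸ R.self_mem_cent (x : G))
  have hcard : Nat.card ↥(R.cent x) * Nat.card ↥(R.cent R.u) =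
      Nat.card ↥R.zc * Nat.card ↥R.bor := by
    -- `C(x)/Z` maps bijectively onto `B/C(u)`
    have h1 : R.zc.relIndex (R.cent x) = (R.cent R.u).relIndex R.bor := by
      refine Nat.card_congr (Equiv.ofBijective (Quotient.map'
        (fun y : ↥(R.cent x) => (⟨y.1, hCB y.2⟩ : ↥R.bor)) ?_) ⟨?_, ?_⟩)
      · intro a b hab
        rw [QuotientGroup.leftRel_apply, mem_subgroupOf] at hab ⊢
        exact R.zc_le_cent _ hab
      · intro a b hab
        induction a using Quotient.inductionOn' with | _ a => ?_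
        induction b using Quotient.inductionOn' with | _ b => ?_
        rw [Quotient.map'_mk'', Quotient.map'_mk'', Quotient.eq'', QuotientGroup.leftRel_apply,
          mem_subgroupOf] at hab
        rw [Quotient.eq'', QuotientGroup.leftRel_apply, mem_subgroupOf]
        rw [← hinf]
        exact Subgroup.mem_inf.mpr ⟨(a⁻¹ * b).2, hab⟩
      · intro g
        induction g using Quotient.inductionOn' with | _ g => ?_
        obtain ⟨k, hk⟩ := Subgroup.mem_zpowers_iff.mp (hgen ⟨χ g, g, rfl⟩)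
        have hk' : χ x ^ k = χ g := by simpa using congrArg Subtype.val hk
        refine ⟨Quotient.mk'' ⟨(x : G) ^ k, zpow_mem (R.self_mem_cent _) k⟩, ?_⟩
        rw [Quotient.map'_mk'', Quotient.eq'', QuotientGroup.leftRel_apply, mem_subgroupOf]
        refine R.mem_cent_u_of_mem_bor (SetLike.coe_mem _) ?_
        rw [← hχ, show (⟨(x : G) ^ k, _⟩ : ↥R.bor) = x ^ k from Subtype.ext (by simp), map_mul,
          map_inv, map_zpow, hk', inv_mul_cancel, Units.val_one]
    have h3 : Nat.card ↥R.zc * R.zc.relIndex (R.cent x) = Nat.card ↥(R.cent x) := by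
      rw [← Subgroup.relIndex_bot_left, ← Subgroup.relIndex_bot_left,
        Subgroup.relIndex_mul_relIndex _ _ _ bot_le (R.zc_le_cent x)]
    rw [← h3, R.card_bor hp2, R.card_cent_u hp2, h1]
    simp only [d]
    ring
  rw [R.card_bor hp2, R.card_cent_u hp2] at hcard
  refine Nat.eq_of_mul_eq_mul_right (m := Nat.card ↥R.zc * Nat.card ↥R.A)
    (Nat.mul_pos Nat.card_pos Nat.card_pos) ?_
  linarith [hcard]

/-- The two cases of the class equation. -/
theorem dichotomy [Finite G] (hp2 : p ≠ 2) :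
    R.bor.index = Nat.card ↥R.A + 1 ∨
      (Nat.card ↥R.A = 3 ∧ Nat.card G = 60 * Nat.card ↥R.zc ∧
        ∃ x ∈ R.semi, Nat.card ↥(R.cent x) = 2 * Nat.card ↥R.zc ∧
          Nat.card ↥(Subgroup.normalizer (R.cent x : Set G)) = 4 * Nat.card ↥R.zc ∧
          ∀ y ∈ R.semi, y ∈ R.fam x ∨ Nat.card ↥(R.cent y) = 5 * Nat.card ↥R.zc) := by
  obtain ⟨k, hk, hn⟩ := R.index_bor hp2
  set q := Nat.card ↥R.A with hq
  set n := R.bor.index with hn'
  set z := Nat.card ↥R.zc with hz
  set c := Nat.card G with hc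
  have hq3 : 3 ≤ q := R.three_le_card_A hp2
  have hd := R.d_lt hp2
  have hc1 : c = z * q * R.d * n := R.card_eq hp2
  have hF0 := R.card_fam_u hp2
  have hdec := R.card_decomp hp2
  have hz0 : 0 < z := Nat.card_pos
  have hd0 : 0 < R.d := Nat.pos_of_ne_zero fun h => by
    rw [hc1, h] at hc; simp at hc; exact (Nat.card_pos (α := G)).ne' hc.symm
  have hnq : q + 1 ≤ n := by rw [hn]; nlinarith
  rw [← hz, ← hc, hc1] at hdec
  rw [← hq, ← hz, ← hn'] at hF0
  set F0 := Nat.card (R.fam R.u) with hF0'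
  set S := Nat.card R.semi with hS
  have hzn : z * 2 ≤ z * n := Nat.mul_le_mul_left z (by omega)
  have hsub : ∀ x ∈ R.semi, Nat.card (R.fam x) ≤ S := fun x hx =>
    Nat.card_mono (Set.toFinite _) (R.fam_subset_semi hp2 hx)
  -- two semisimple families
  have two : ∀ x ∈ R.semi, ∀ y ∈ R.semi, y ∉ R.fam x →
      Nat.card (R.fam x) + Nat.card (R.fam y) ≤ S := fun x hx y hy hyx => by
    rw [hS, Nat.card_coe_set_eq, Nat.card_coe_set_eq, Nat.card_coe_set_eq,
      ← Set.ncard_union_eq (R.fam_disjoint hyx hy.1)]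
    exact Set.ncard_le_ncard (Set.union_subset (R.fam_subset_semi hp2 hx)
      (R.fam_subset_semi hp2 hy))
  have single : ∀ x ∈ R.semi, R.semi ⊆ R.fam x → Nat.card (R.fam x) = S := fun x hx h =>
    le_antisymm (hsub x hx) (Nat.card_mono (Set.toFinite _) h)
  have fam_ge : ∀ x ∈ R.semi, z * q * R.d * n ≤ 4 * Nat.card (R.fam x) := fun x hx => by
    have h := R.four_mul_fam_ge hp2 hx
    rwa [← hc, hc1] at h
  rcases Nat.lt_or_ge R.d 2 with hd1 | hd2
  · -- `d = 1`
    left
    have hd1' : R.d = 1 := by omega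
    rw [hd1', mul_one] at hc1 hdec
    simp only [hd1', mul_one] at fam_ge
    have hS1 : S + z = z * n := by linarith
    obtain ⟨x, hx⟩ : R.semi.Nonempty := by
      by_contra h
      have : S = 0 := by
        rw [hS, Nat.card_coe_set_eq, Set.not_nonempty_iff_eq_empty.mp h, Set.ncard_empty]
      linarith
    have h4 := fam_ge x hx
    have hx' := hsub x hx
    have hq4 : q = 3 := by
      have h5 : q * (z * n) < 4 * (z * n) := by linarith
      have := Nat.lt_of_mul_lt_mul_right h5
      omega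
    rw [hq4] at hc1 hdec hF0 fam_ge h4 ⊢
    have hall : R.semi ⊆ R.fam x := by
      intro y hy
      by_contra hyx
      have h5 := two x hx y hy hyx
      have h6 := fam_ge y hy
      linarith
    obtain ⟨f, e, hf, he, -, -, hfe⟩ := R.fam_semi hp2 hx
    rw [single x hx hall, ← hc, hc1] at hfe
    rcases hf with rfl | rfl
    · exfalso
      have h7 : (S + z) * e = z * n * e := by rw [hS1]
      have h8 : z * n * 2 ≤ z * n * e := Nat.mul_le_mul_left _ he
      have h9 : z * 2 ≤ z * e := Nat.mul_le_mul_left _ he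
      linarith
    · have h7 : (S + z) * e = z * n * e := by rw [hS1]
      have h8 : z * (n * e + 2 * e) = z * (3 * n) := by linarith
      have h9 := Nat.eq_of_mul_eq_mul_left hz0 h8
      have he2 : e = 2 := by
        by_contra hne
        have h10 : n * 3 ≤ n * e := Nat.mul_le_mul_left _ (by omega)
        linarith
      rw [he2] at h9
      omega
  · obtain ⟨x, hx, hCx⟩ := R.exists_torus hp2 hd2
    obtain ⟨f, e₁, hf, -, hCe, hN, hfe⟩ := R.fam_semi hp2 hx
    have he1 : e₁ = R.d := Nat.eq_of_mul_eq_mul_left hz0 (hCe.symm.trans hCx)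
    rw [he1, ← hc] at hfe
    set F1 := Nat.card (R.fam x) with hF1
    have hF1' : f * F1 + z * q * n = z * q * n * R.d := by
      refine Nat.eq_of_mul_eq_mul_left hd0 ?_
      rw [hc1] at hfe
      linarith [hfe]
    have hqd : z * q * n * 2 ≤ z * q * n * R.d := Nat.mul_le_mul_left _ hd2
    have hzq : z * n * 3 ≤ z * n * q := Nat.mul_le_mul_left _ hq3
    rcases hf with rfl | rfl
    · exfalso
      have hlt : F1 < S := by linarith
      obtain ⟨y, hy, hyx⟩ : ∃ y ∈ R.semi, y ∉ R.fam x := by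
        by_contra h
        push Not at h
        exact hlt.ne (single x hx h)
      have h5 := two x hx y hy hyx
      have h6 := fam_ge y hy
      rw [← hF1] at h5
      linarith
    · obtain ⟨y, hy, hyx⟩ : ∃ y ∈ R.semi, y ∉ R.fam x := by
        by_contra h
        push Not at h
        have h5 : F1 = S := single x hx h
        linarith
      have h5 := two x hx y hy hyx
      obtain ⟨f₂, e₂, hf₂, he₂, hCy, -, hfy⟩ := R.fam_semi hp2 hy
      have h6 := fam_ge y hy
      rw [← hF1] at h5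
      have hall : ∀ w ∈ R.semi, w ∈ R.fam x ∨ w ∈ R.fam y := by
        intro w hw
        by_contra h
        push Not at h
        have h7 : Nat.card (R.fam x) + Nat.card (R.fam y) + Nat.card (R.fam w) ≤ S := by
          rw [hS, Nat.card_coe_set_eq, Nat.card_coe_set_eq, Nat.card_coe_set_eq,
            Nat.card_coe_set_eq, ← Set.ncard_union_eq (R.fam_disjoint hyx hy.1),
            ← Set.ncard_union_eq (Set.disjoint_union_left.mpr
              ⟨R.fam_disjoint h.1 hw.1, R.fam_disjoint h.2 hw.1⟩)]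
          exact Set.ncard_le_ncard (Set.union_subset (Set.union_subset (R.fam_subset_semi hp2 hx)
            (R.fam_subset_semi hp2 hy)) (R.fam_subset_semi hp2 hw))
        have h8 := fam_ge w hw
        rw [← hF1] at h7
        linarith
      have hsum : F1 + Nat.card (R.fam y) = S := by
        refine le_antisymm h5 ?_
        rw [hS, hF1, Nat.card_coe_set_eq, Nat.card_coe_set_eq, Nat.card_coe_set_eq,
          ← Set.ncard_union_eq (R.fam_disjoint hyx hy.1)]
        exact Set.ncard_le_ncard hall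
      set F2 := Nat.card (R.fam y) with hF2
      rw [← hc, hc1] at hfy
      rcases hf₂ with rfl | rfl
      · exfalso
        have h7 : z * q * R.d * n * 2 ≤ z * q * R.d * n * e₂ := Nat.mul_le_mul_left _ he₂
        have h8 : z * q * R.d * n * e₂ ≤ 2 * F2 * e₂ := by linarith
        have h9 := Nat.le_of_mul_le_mul_right h8 (by omega)
        linarith
      · have h9 : n * q * R.d + 2 * n * e₂ = e₂ * n * q + 2 * e₂ := by
          refine Nat.eq_of_mul_eq_mul_left hz0 ?_
          zify at hdec hF0 hF1' hfy hsum ⊢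
          linear_combination hfy + (-2 * (e₂ : ℤ)) * hdec + (2 * (e₂ : ℤ)) * hF0 +
            (-2 * (e₂ : ℤ)) * hsum + (e₂ : ℤ) * hF1'
        rcases Nat.lt_or_ge k 2 with hk1 | hk2
        · left
          have : k = 1 := by omega
          rw [hn, this, one_mul, add_comm]
        · right
          obtain ⟨hq4, hd4, hn4, he4⟩ := arith_aux hn hk2 hq3 hd he₂ h9
          refine ⟨hq4, by rw [hc1, hq4, hd4, hn4]; ring, x, hx, by rw [hCe, he1, hd4, mul_comm],
            by rw [hN, hCe, he1, hd4]; ring, fun w hw => ?_⟩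
          rcases hall w hw with h | ⟨-, g, hg⟩
          · exact Or.inl h
          · right
            rw [hg, Subgroup.card_map_of_injective (MulAut.conj g).injective, hCy, he4]
            exact mul_comm _ _

end SL2Rep

end CfsgLib.LocalEven.SL2T
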