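import Cfsg.Agent.LocalEven.SL2Transvections.Unipotent
import Mathlib.RingTheory.IntegralDomain
import Mathlib.GroupTheory.GroupAction.Quotient

/-!
# Finite subgroups of `SL₂(K)` containing two transvections: the class equation

Either the Borel subgroup has index `|A| + 1`, or `|A| = 3` and the group modulo scalars has
order `60`.
-/

set_option autoImplicit false

namespace CfsgLib.LocalEven.SL2T

open Matrix Subgroup CfsgLib.Linear
open scoped MatrixGroups

variable {K : Type*} [Field K] {p : ℕ} {G : Type*} [Group G] (R : SL2Rep K p G)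

namespace SL2Rep

/-- The elements whose centralizer is conjugate to that of `x`. -/
def fam (x : G) : Set G :=
  {y | y ∉ R.zc ∧ ∃ g, R.cent y = (R.cent x).map (MulAut.conj g).toMonoidHom}

/-- The semisimple elements. -/
def semi : Set G := {y | y ∉ R.zc ∧ R.tr y ^ 2 ≠ 4}

theorem conj_cent_eq_iff (g x : G) :
    (R.cent x).map (MulAut.conj g).toMonoidHom = R.cent x ↔
      g ∈ Subgroup.normalizer (R.cent x : Set G) := mem_normalizer_iff_map_conj_eq.symm

theorem conj_mem_nz {g x m : G} (hx : x ∉ R.zc) (hm : m ∈ R.cent x) (hmz : m ∉ R.zc) :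
    g * m * g⁻¹ ∈ R.fam x :=
  ⟨fun h => hmz (R.conj_mem_zc_iff.mp h), g, by rw [R.cent_conj, R.cent_eq_of_mem hx hm hmz]⟩

theorem card_nz [Finite G] (x : G) :
    Nat.card {m : G // m ∈ R.cent x ∧ m ∉ R.zc} + Nat.card ↥R.zc = Nat.card ↥(R.cent x) := by
  have h := Set.ncard_sdiff_add_ncard_of_subset (SetLike.coe_subset_coe.mpr (R.zc_le_cent x))
  rw [← Nat.card_coe_set_eq, ← Nat.card_coe_set_eq, ← Nat.card_coe_set_eq] at h
  exact h

theorem card_fam [Finite G] {x : G} (hx : x ∉ R.zc) :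
    Nat.card (R.fam x) * Nat.card ↥(Subgroup.normalizer (R.cent x : Set G)) +
      Nat.card G * Nat.card ↥R.zc = Nat.card G * Nat.card ↥(R.cent x) := by
  classical
  rw [← R.card_nz x, mul_add]
  refine congrArg (· + _) ?_
  rw [← Nat.card_prod, ← Nat.card_prod]
  choose σ hσ using fun y : R.fam x => y.2.2
  refine Nat.card_congr
    { toFun := fun yn =>
        (σ yn.1 * (yn.2 : G), ⟨(σ yn.1 * (yn.2 : G))⁻¹ * yn.1.1 * (σ yn.1 * (yn.2 : G)), ?_, ?_⟩)
      invFun := fun hm =>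
        (⟨hm.1 * hm.2.1 * hm.1⁻¹, R.conj_mem_nz hx hm.2.2.1 hm.2.2.2⟩,
          ⟨(σ ⟨hm.1 * hm.2.1 * hm.1⁻¹, R.conj_mem_nz hx hm.2.2.1 hm.2.2.2⟩)⁻¹ * hm.1, ?_⟩)
      left_inv := ?_
      right_inv := ?_ }
  · have h1 : yn.1.1 ∈ R.cent yn.1.1 := R.self_mem_cent _
    rw [hσ yn.1] at h1
    obtain ⟨m, hm, hme⟩ := h1
    simp only [MulEquiv.coe_toMonoidHom, MulAut.conj_apply] at hme
    have e : (σ yn.1 * (yn.2 : G))⁻¹ * yn.1.1 * (σ yn.1 * (yn.2 : G)) =
        (yn.2 : G)⁻¹ * m * (yn.2 : G) := by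
      rw [← hme]; group
    rw [e]
    exact (mem_normalizer_iff''.mp yn.2.2 m).mp hm
  · intro h
    refine yn.1.2.1 ?_
    have := R.conj_mem_zc (g := σ yn.1 * (yn.2 : G)) h
    simpa [mul_assoc] using this
  · rw [← R.conj_cent_eq_iff]
    have h1 := hσ ⟨hm.1 * hm.2.1 * hm.1⁻¹, R.conj_mem_nz hx hm.2.2.1 hm.2.2.2⟩
    simp only [R.cent_conj, R.cent_eq_of_mem hx hm.2.2.1 hm.2.2.2] at h1
    generalize σ ⟨hm.1 * hm.2.1 * hm.1⁻¹, R.conj_mem_nz hx hm.2.2.1 hm.2.2.2⟩ = s at h1 ⊢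
    have h2 := congrArg (Subgroup.map (MulAut.conj s⁻¹).toMonoidHom) h1
    rw [Subgroup.map_map, Subgroup.map_map] at h2
    calc (R.cent x).map (MulAut.conj (s⁻¹ * hm.1)).toMonoidHom
        = (R.cent x).map ((MulAut.conj s⁻¹).toMonoidHom.comp (MulAut.conj hm.1).toMonoidHom) := by
          congr 1; ext y; simp [mul_assoc]
      _ = (R.cent x).map ((MulAut.conj s⁻¹).toMonoidHom.comp (MulAut.conj s).toMonoidHom) := h2
      _ = R.cent x := by
          rw [show (MulAut.conj s⁻¹).toMonoidHom.comp (MulAut.conj s).toMonoidHom =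
            MonoidHom.id G by ext y; simp [mul_assoc], Subgroup.map_id]
  · rintro ⟨y, n⟩
    have hy : (⟨σ y * (n : G) * ((σ y * (n : G))⁻¹ * y.1 * (σ y * (n : G))) *
        (σ y * (n : G))⁻¹, R.conj_mem_nz hx (by
          have h1 : y.1 ∈ R.cent y.1 := R.self_mem_cent _
          rw [hσ y] at h1
          obtain ⟨m, hm, hme⟩ := h1
          simp only [MulEquiv.coe_toMonoidHom, MulAut.conj_apply] at hme
          have e : (σ y * (n : G))⁻¹ * y.1 * (σ y * (n : G)) = (n : G)⁻¹ * m * (n : G) := by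
            rw [← hme]; group
          rw [e]
          exact (mem_normalizer_iff''.mp n.2 m).mp hm) (fun h => y.2.1 (by
          simpa [mul_assoc] using R.conj_mem_zc (g := σ y * (n : G)) h))⟩ : R.fam x) = y :=
      Subtype.ext (by group)
    refine Prod.ext hy (Subtype.ext ?_)
    show (σ _)⁻¹ * (σ y * (n : G)) = n
    rw [hy, inv_mul_cancel_left]
  · rintro ⟨h, m, hm⟩
    refine Prod.ext (mul_inv_cancel_left _ _) (Subtype.ext ?_)
    show (σ _ * ((σ _)⁻¹ * h))⁻¹ * (h * m * h⁻¹) * (σ _ * ((σ _)⁻¹ * h)) = m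
    rw [mul_inv_cancel_left]
    group

variable [hp : Fact p.Prime] [CharP K p]

theorem mem_semi_of_mem_cent [Finite G] (hp2 : p ≠ 2) {x y : G} (hx : x ∈ R.semi)
    (hy : y ∈ R.cent x) (hyz : y ∉ R.zc) : y ∈ R.semi := by
  refine ⟨hyz, fun ht => hx.2 ?_⟩
  obtain ⟨g, hg⟩ := R.exists_cent_conj hp2 hyz ht
  obtain ⟨m, hm, rfl⟩ : x ∈ (R.cent R.u).map (MulAut.conj g).toMonoidHom :=
    hg ▸ R.mem_cent.mpr (R.mem_cent.mp hy).symm
  simp only [MulEquiv.coe_toMonoidHom, MulAut.conj_apply]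
  rw [R.tr_conj]
  exact R.tr_sq_of_mem_cent_u hm

theorem fam_subset_semi [Finite G] (hp2 : p ≠ 2) {x : G} (hx : x ∈ R.semi) :
    R.fam x ⊆ R.semi := by
  rintro y ⟨hyz, g, hg⟩
  obtain ⟨m, hm, rfl⟩ : y ∈ (R.cent x).map (MulAut.conj g).toMonoidHom := hg ▸ R.self_mem_cent y
  simp only [MulEquiv.coe_toMonoidHom, MulAut.conj_apply] at hyz ⊢
  refine ⟨hyz, ?_⟩
  rw [R.tr_conj]
  exact (R.mem_semi_of_mem_cent hp2 hx hm fun h => hyz (R.conj_mem_zc h)).2

theorem fam_u_eq [Finite G] (hp2 : p ≠ 2) :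
    R.fam R.u = {y | y ∉ R.zc ∧ R.tr y ^ 2 = 4} := by
  ext y
  constructor
  · rintro ⟨hyz, g, hg⟩
    refine ⟨hyz, ?_⟩
    obtain ⟨m, hm, rfl⟩ : y ∈ (R.cent R.u).map (MulAut.conj g).toMonoidHom :=
      hg ▸ R.self_mem_cent y
    simp only [MulEquiv.coe_toMonoidHom, MulAut.conj_apply]
    rw [R.tr_conj]
    exact R.tr_sq_of_mem_cent_u hm
  · exact fun h => ⟨h.1, R.exists_cent_conj hp2 h.1 h.2⟩

theorem card_decomp [Finite G] (hp2 : p ≠ 2) :
    Nat.card ↥R.zc + Nat.card (R.fam R.u) + Nat.card R.semi = Nat.card G := by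
  have h2 : R.fam R.u ∪ R.semi = (R.zc : Set G)ᶜ := by
    rw [R.fam_u_eq hp2]
    ext y
    simp only [semi, Set.mem_union, Set.mem_compl_iff, SetLike.mem_coe, Set.mem_ofPred_eq]
    tauto
  have h3 : Disjoint (R.fam R.u) R.semi := by
    rw [R.fam_u_eq hp2, Set.disjoint_left]
    exact fun y hy hy' => hy'.2 hy.2
  rw [Nat.card_coe_set_eq, Nat.card_coe_set_eq, add_assoc, ← Set.ncard_union_eq h3, h2,
    show Nat.card ↥R.zc = (R.zc : Set G).ncard from Nat.card_coe_set_eq _]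
  exact Set.ncard_add_ncard_compl _

theorem card_cent_u [Finite G] (hp2 : p ≠ 2) :
    Nat.card ↥(R.cent R.u) = Nat.card ↥R.zc * Nat.card ↥R.A := by
  rw [← Nat.card_prod]
  refine (Nat.card_congr (Equiv.ofBijective
    (fun za : ↥R.zc × ↥R.A => (⟨za.1.1 * za.2.1,
      mul_mem (R.zc_le_cent _ za.1.2) (R.A_le_cent_u za.2.2)⟩ : ↥(R.cent R.u))) ⟨?_, ?_⟩)).symm
  · rintro ⟨⟨z, hz⟩, ⟨a, ha⟩⟩ ⟨⟨z', hz'⟩, ⟨a', ha'⟩⟩ h
    have h1 : z * a = z' * a' := congrArg Subtype.val h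
    have h2 : z'⁻¹ * z = a' * a⁻¹ := by
      rw [eq_mul_inv_iff_mul_eq, mul_assoc, h1, inv_mul_cancel_left]
    have h3 : z'⁻¹ * z ∈ R.A ⊓ R.zc :=
      Subgroup.mem_inf.mpr ⟨h2 ▸ mul_mem ha' (inv_mem ha), mul_mem (inv_mem hz') hz⟩
    rw [R.A_inf_zc (two_ne_zero_of_odd hp2), mem_bot] at h3
    have e1 : z = z' := (inv_mul_eq_one.mp h3).symm
    subst e1
    have e2 : a = a' := mul_left_cancel h1
    subst e2
    rfl
  · rintro ⟨y, hy⟩
    obtain ⟨b, hb | hb⟩ := R.mem_cent_u.mp hy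
    · exact ⟨⟨1, ⟨y, R.mem_A.mpr ⟨b, hb⟩⟩⟩, Subtype.ext (one_mul y)⟩
    · have hodd : Odd p := (Fact.out : p.Prime).odd_of_ne_two hp2
      have hz : y ^ p ∈ R.zc := R.mem_zc.mpr (Or.inr (by
        rw [map_pow, hb, neg_pow, upperUni_pow, CharP.cast_eq_zero, zero_mul, upperUni_zero,
          hodd.neg_one_pow, mul_one]))
      refine ⟨⟨⟨_, inv_mem hz⟩, ⟨y ^ p * y, R.mem_A.mpr ⟨b, ?_⟩⟩⟩,
        Subtype.ext (inv_mul_cancel_left _ _)⟩
      rw [map_mul, map_pow, hb, neg_pow, upperUni_pow, CharP.cast_eq_zero, zero_mul,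
        upperUni_zero, hodd.neg_one_pow, mul_one, neg_one_mul, neg_neg]

/-- `d = [B : C(u)]`. -/
noncomputable def d : ℕ := (R.cent R.u).relIndex R.bor

theorem card_bor [Finite G] (hp2 : p ≠ 2) :
    Nat.card ↥R.bor = Nat.card ↥R.zc * Nat.card ↥R.A * R.d := by
  rw [← R.card_cent_u hp2, d, relIndex,
    ← Subgroup.card_mul_index ((R.cent R.u).subgroupOf R.bor),
    Nat.card_congr (Subgroup.subgroupOfEquivOfLe R.cent_u_le_bor).toEquiv]

theorem d_lt [Finite G] (hp2 : p ≠ 2) : R.d + 1 ≤ Nat.card ↥R.A := by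
  classical
  have h2 := two_ne_zero_of_odd (K := K) hp2
  let f : ↥R.bor ⧸ (R.cent R.u).subgroupOf R.bor → {y : ↥R.A // y ≠ 1} := fun c =>
    Quotient.liftOn' c (fun g => ⟨⟨g.1 * R.u * g.1⁻¹, R.mem_A.mpr ⟨_, R.conj_upper g.2 R.hu⟩⟩,
        fun h => R.u_not_zc h2 (by
          have h' : g.1 * R.u * g.1⁻¹ = 1 := congrArg Subtype.val h
          rw [conj_eq_one_iff.mp h']; exact one_mem _)⟩) (by
      intro g h hgh
      rw [QuotientGroup.leftRel_apply, mem_subgroupOf, R.mem_cent] at hgh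
      simp only [Subgroup.coe_mul, InvMemClass.coe_inv] at hgh
      refine Subtype.ext (Subtype.ext ?_)
      show g.1 * R.u * g.1⁻¹ = h.1 * R.u * h.1⁻¹
      calc g.1 * R.u * g.1⁻¹ = g.1 * (R.u * (g.1⁻¹ * h.1)) * h.1⁻¹ := by group
        _ = g.1 * (g.1⁻¹ * h.1 * R.u) * h.1⁻¹ := by rw [hgh]
        _ = h.1 * R.u * h.1⁻¹ := by group)
  have hf : Function.Injective f := by
    intro a b
    induction a using Quotient.inductionOn' with | _ g => ?_
    induction b using Quotient.inductionOn' with | _ h => ?_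
    intro e
    have e' : g.1 * R.u * g.1⁻¹ = h.1 * R.u * h.1⁻¹ :=
      congrArg (fun z : {y : ↥R.A // y ≠ 1} => (z.1 : G)) e
    rw [Quotient.eq'', QuotientGroup.leftRel_apply, mem_subgroupOf, R.mem_cent]
    simp only [Subgroup.coe_mul, InvMemClass.coe_inv]
    calc g.1⁻¹ * h.1 * R.u = g.1⁻¹ * (h.1 * R.u * h.1⁻¹) * h.1 := by group
      _ = g.1⁻¹ * (g.1 * R.u * g.1⁻¹) * h.1 := by rw [e']
      _ = R.u * (g.1⁻¹ * h.1) := by group
  have h3 := Nat.card_le_card_of_injective f hf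
  haveI := Fintype.ofFinite ↥R.A
  have h4 : Nat.card {y : ↥R.A // y ≠ 1} + 1 = Nat.card ↥R.A := by
    rw [Nat.card_eq_fintype_card, Nat.card_eq_fintype_card, Fintype.card_subtype_compl,
      Fintype.card_subtype_eq]
    have : 0 < Fintype.card ↥R.A := Fintype.card_pos
    omega
  change R.d ≤ _ at h3
  omega

theorem l_not_mem_bor : R.l ∉ R.bor := by
  rw [R.mem_bor, R.hl, lowerUni_val]
  simp

theorem index_bor [Finite G] (hp2 : p ≠ 2) :
    ∃ k, 1 ≤ k ∧ R.bor.index = 1 + k * Nat.card ↥R.A := by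
  classical
  have hA : R.A ≤ R.bor := R.A_le_cent_u.trans R.cent_u_le_bor
  let X := {c : G ⧸ R.bor // c ≠ (QuotientGroup.mk 1 : G ⧸ R.bor)}
  letI : MulAction ↥R.A X :=
    { smul := fun a c => ⟨(a : G) • c.1, fun h => c.2 (by
        have h' := congrArg ((a : G)⁻¹ • ·) h
        simp only [inv_smul_smul] at h'
        rw [h', MulAction.Quotient.smul_mk, smul_eq_mul, mul_one, QuotientGroup.eq, mul_one,
          inv_inv]
        exact hA a.2)⟩
      one_smul := fun c => Subtype.ext (one_smul G c.1)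
      mul_smul := fun a b c => Subtype.ext (mul_smul (a : G) (b : G) c.1) }
  have hfree : ∀ c : X, MulAction.stabilizer ↥R.A c = ⊥ := by
    rintro ⟨c, hc⟩
    rw [eq_bot_iff]
    intro a ha
    obtain ⟨g, rfl⟩ := QuotientGroup.mk_surjective c
    have h1 : (QuotientGroup.mk ((a : G) * g) : G ⧸ R.bor) = QuotientGroup.mk g :=
      congrArg Subtype.val (MulAction.mem_stabilizer_iff.mp ha)
    rw [QuotientGroup.eq] at h1
    have hg : (R.ρ g).1 1 0 ≠ 0 := fun h => hc (by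
      rw [QuotientGroup.eq, mul_one]; exact inv_mem (R.mem_bor.mpr h))
    obtain ⟨b, hb⟩ := R.mem_A.mp a.2
    rw [R.mem_bor, map_mul, map_inv, map_mul, hb, Matrix.SpecialLinearGroup.coe_mul,
      Matrix.SpecialLinearGroup.coe_inv, Matrix.SpecialLinearGroup.coe_mul, adjugate_fin_two,
      upperUni_val] at h1
    simp [Matrix.mul_apply, Fin.sum_univ_two] at h1
    have hb0 : b = 0 := by
      have : b * (R.ρ g).1 1 0 * (R.ρ g).1 1 0 = 0 := by linear_combination h1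
      simpa [hg] using this
    rw [mem_bot]
    refine Subtype.ext (R.inj ?_)
    rw [hb, hb0, upperUni_zero, OneMemClass.coe_one, map_one]
  have h1 : Nat.card X = Nat.card (Quotient (MulAction.orbitRel ↥R.A X)) * Nat.card ↥R.A := by
    rw [← Nat.card_prod]
    exact Nat.card_congr (MulAction.selfEquivOrbitsQuotientProd hfree)
  haveI := Fintype.ofFinite (G ⧸ R.bor)
  have h2 : R.bor.index = 1 + Nat.card X := by
    show Nat.card (G ⧸ R.bor) = _
    rw [Nat.card_eq_fintype_card, Nat.card_eq_fintype_card, Fintype.card_subtype_compl,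
      Fintype.card_subtype_eq]
    have : 0 < Fintype.card (G ⧸ R.bor) := Fintype.card_pos
    omega
  refine ⟨Nat.card (Quotient (MulAction.orbitRel ↥R.A X)), ?_, by rw [h2, h1]⟩
  have : Nonempty X := ⟨⟨QuotientGroup.mk R.l, fun h => R.l_not_mem_bor (by
    rw [QuotientGroup.eq, mul_one] at h; simpa using inv_mem h)⟩⟩
  haveI : Nonempty (Quotient (MulAction.orbitRel ↥R.A X)) := this.map Quotient.mk''
  exact Nat.one_le_iff_ne_zero.mpr Nat.card_pos.ne'

theorem card_eq [Finite G] (hp2 : p ≠ 2) :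
    Nat.card G = Nat.card ↥R.zc * Nat.card ↥R.A * R.d * R.bor.index := by
  rw [← R.card_bor hp2, Subgroup.card_mul_index]

theorem card_fam_u [Finite G] (hp2 : p ≠ 2) :
    Nat.card (R.fam R.u) + Nat.card ↥R.zc * R.bor.index =
      Nat.card ↥R.zc * R.bor.index * Nat.card ↥R.A := by
  have h := R.card_fam (R.u_not_zc (two_ne_zero_of_odd hp2))
  rw [R.normalizer_cent_u hp2, R.card_bor hp2, R.card_cent_u hp2, R.card_eq hp2] at h
  have hpos : 0 < Nat.card ↥R.zc * Nat.card ↥R.A * R.d := by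
    rw [← R.card_bor hp2]; exact Nat.card_pos
  refine Nat.eq_of_mul_eq_mul_right hpos ?_
  linarith [h]

/-- Data of a semisimple family. -/
theorem fam_semi [Finite G] (hp2 : p ≠ 2) {x : G} (hx : x ∈ R.semi) :
    ∃ f e, (f = 1 ∨ f = 2) ∧ 2 ≤ e ∧ Nat.card ↥(R.cent x) = Nat.card ↥R.zc * e ∧
      Nat.card ↥(Subgroup.normalizer (R.cent x : Set G)) = f * Nat.card ↥(R.cent x) ∧
      Nat.card (R.fam x) * f * e + Nat.card G = Nat.card G * e := by
  have h2 := two_ne_zero_of_odd (K := K) hp2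
  have hC : Nat.card ↥(R.cent x) = Nat.card ↥R.zc * R.zc.relIndex (R.cent x) := by
    rw [← Subgroup.relIndex_bot_left, ← Subgroup.relIndex_bot_left,
      Subgroup.relIndex_mul_relIndex _ _ _ bot_le (R.zc_le_cent x)]
  have he : 2 ≤ R.zc.relIndex (R.cent x) := by
    by_contra h
    have h1 : R.zc.relIndex (R.cent x) ≠ 0 := fun h0 => Nat.card_pos.ne' (hC.trans (by simp [h0]))
    have h3 : R.zc.relIndex (R.cent x) = 1 := by omega
    exact hx.1 (relIndex_eq_one.mp h3 (R.self_mem_cent x))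
  obtain ⟨f, hf, hN⟩ : ∃ f, (f = 1 ∨ f = 2) ∧
      Nat.card ↥(Subgroup.normalizer (R.cent x : Set G)) = f * Nat.card ↥(R.cent x) := by
    rcases R.card_centralizer_le_normalizer h2 hx.1 hx.2 with h | ⟨w, -, h⟩
    · exact ⟨1, Or.inl rfl, by rw [h, one_mul]⟩
    · exact ⟨2, Or.inr rfl, h⟩
  refine ⟨f, _, hf, he, hC, hN, ?_⟩
  have h := R.card_fam hx.1
  rw [hN, hC] at h
  refine Nat.eq_of_mul_eq_mul_right (m := Nat.card ↥R.zc) Nat.card_pos ?_
  linarith [h]

theorem four_mul_fam_ge [Finite G] (hp2 : p ≠ 2) {x : G} (hx : x ∈ R.semi) :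
    Nat.card G ≤ 4 * Nat.card (R.fam x) := by
  obtain ⟨f, e, hf, he, -, -, h⟩ := R.fam_semi hp2 hx
  rcases hf with rfl | rfl <;> nlinarith

omit hp [CharP K p] in
theorem fam_disjoint {x y : G} (hy : y ∉ R.fam x) (hyz : y ∉ R.zc) :
    Disjoint (R.fam x) (R.fam y) := by
  rw [Set.disjoint_left]
  rintro w ⟨-, g, hg⟩ ⟨-, h, hh⟩
  refine hy ⟨hyz, h⁻¹ * g, ?_⟩
  have h2 := congrArg (Subgroup.map (MulAut.conj h⁻¹).toMonoidHom) (hh.symm.trans hg)
  rw [Subgroup.map_map, Subgroup.map_map,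
    show (MulAut.conj h⁻¹).toMonoidHom.comp (MulAut.conj h).toMonoidHom = MonoidHom.id G by
      ext y; simp [mul_assoc], Subgroup.map_id] at h2
  rw [h2]
  congr 1
  ext y
  simp [mul_assoc]

end SL2Rep

end CfsgLib.LocalEven.SL2T
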