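import Cfsg.Agent.LocalEven.SL2Transvections.Cases
import Cfsg.Agent.FusionEssential.GL2
import Mathlib.GroupTheory.Perm.Cycle.Type

/-!
# A finite subgroup of `SL₂(K)` with two non-commuting transvections contains `SL₂(p)`

`exists_sl2_hom`: up to a change of coordinates it contains the matrices of `SL₂(p)`.
-/

set_option autoImplicit false

namespace CfsgLib.LocalEven.SL2T

open Matrix Subgroup CfsgLib.Linear
open scoped MatrixGroups

variable {K : Type*} [Field K]

/-- The coordinates of two non-commuting transvections, if `MN ≠ 0`. -/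
theorem exists_basis {N M : Matrix (Fin 2) (Fin 2) K} (hN : N * N = 0) (hM : M * M = 0)
    (hMN : M * N ≠ 0) :
    (N * M).trace ≠ 0 ∧ ∃ P : GL (Fin 2) K,
      N * P.1 = P.1 * !![0, (N * M).trace; 0, 0] ∧ M * P.1 = P.1 * !![0, 0; 1, 0] := by
  obtain ⟨w, hw⟩ : ∃ w, M *ᵥ (N *ᵥ w) ≠ 0 := by
    by_contra h
    push Not at h
    refine hMN (Matrix.toLin'.injective (LinearMap.ext fun w => ?_))
    rw [Matrix.toLin'_apply, ← Matrix.mulVec_mulVec, h w, map_zero, LinearMap.zero_apply]
  have hdN : N.det = 0 := by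
    have := congrArg Matrix.det hN
    rwa [det_mul, Matrix.det_zero, mul_self_eq_zero] at this
  rw [det_fin_two] at hdN
  have hNMN : N * M * N = (N * M).trace • N := by
    ext i j
    fin_cases i <;> fin_cases j <;>
      simp [Matrix.mul_apply, Fin.sum_univ_two, Matrix.trace_fin_two]
    · linear_combination -(M 1 1) * hdN
    · linear_combination (M 0 1) * hdN
    · linear_combination (M 1 0) * hdN
    · linear_combination -(M 0 0) * hdN
  set t := (N * M).trace with ht
  set e₁ := N *ᵥ w with he₁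
  set e₂ := M *ᵥ e₁ with he₂
  have hN1 : N *ᵥ e₁ = 0 := by rw [he₁, Matrix.mulVec_mulVec, hN, Matrix.zero_mulVec]
  have hM2 : M *ᵥ e₂ = 0 := by rw [he₂, Matrix.mulVec_mulVec, hM, Matrix.zero_mulVec]
  have hN2 : N *ᵥ e₂ = t • e₁ := by
    rw [he₂, he₁, Matrix.mulVec_mulVec, Matrix.mulVec_mulVec, hNMN,
      Matrix.smul_mulVec]
  set P : Matrix (Fin 2) (Fin 2) K := Matrix.of fun i j => if j = 0 then e₁ i else e₂ i with hP
  have hPd : P.det ≠ 0 := by
    intro hd
    rw [det_fin_two] at hd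
    simp [hP] at hd
    by_cases h0 : e₁ 0 = 0
    · have h1 : e₁ 1 ≠ 0 := fun h1 => hw (by
        rw [he₂, show e₁ = 0 from funext fun i => by fin_cases i <;> simp [h0, h1], Matrix.mulVec_zero])
      have : e₂ = (e₂ 1 / e₁ 1) • e₁ := by
        ext i
        fin_cases i
        · simp [h0, h1] at hd ⊢
          simpa [h0, h1] using hd
        · simp [h1]
      have h2 : M *ᵥ e₂ = (e₂ 1 / e₁ 1) • e₂ := by
        conv_lhs => rw [this]
        rw [Matrix.mulVec_smul]
      rw [hM2, eq_comm, smul_eq_zero] at h2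
      rcases h2 with h2 | h2
      · rw [h2, zero_smul] at this; exact hw this
      · exact hw h2
    · have : e₂ = (e₂ 0 / e₁ 0) • e₁ := by
        ext i
        fin_cases i
        · simp [h0]
        · simp
          field_simp
          linear_combination hd
      have h2 : M *ᵥ e₂ = (e₂ 0 / e₁ 0) • e₂ := by
        conv_lhs => rw [this]
        rw [Matrix.mulVec_smul]
      rw [hM2, eq_comm, smul_eq_zero] at h2
      rcases h2 with h2 | h2
      · rw [h2, zero_smul] at this; exact hw this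
      · exact hw h2
  have hNP : N * P = P * !![0, t; 0, 0] := by
    ext i j
    fin_cases j
    · have := congrFun hN1 i
      simp [Matrix.mulVec, dotProduct, Fin.sum_univ_two] at this
      simp [hP, Matrix.mul_apply, Fin.sum_univ_two, this]
    · have := congrFun hN2 i
      simp [Matrix.mulVec, dotProduct, Fin.sum_univ_two] at this
      simp [hP, Matrix.mul_apply, Fin.sum_univ_two, this, mul_comm]
  have hMP : M * P = P * !![0, 0; 1, 0] := by
    ext i j
    fin_cases j
    · have := congrFun he₂ i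
      simp [Matrix.mulVec, dotProduct, Fin.sum_univ_two] at this
      simp [hP, Matrix.mul_apply, Fin.sum_univ_two, this]
    · have := congrFun hM2 i
      simp [Matrix.mulVec, dotProduct, Fin.sum_univ_two] at this
      simp [hP, Matrix.mul_apply, Fin.sum_univ_two, this]
  refine ⟨fun h0 => ?_, Matrix.GeneralLinearGroup.mkOfDetNeZero P hPd, hNP, hMP⟩
  -- otherwise `N` kills the whole plane
  have hu : IsUnit P := (Matrix.isUnit_iff_isUnit_det P).mpr (Ne.isUnit hPd)
  have : N = 0 := by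
    refine hu.mul_left_eq_zero.mp ?_
    rw [hNP, h0]
    ext i j
    fin_cases i <;> fin_cases j <;> simp [Matrix.mul_apply, Fin.sum_univ_two]
  exact hMN (by rw [this, mul_zero])

variable {p : ℕ} [hp : Fact p.Prime] [CharP K p] {G : Type*} [Group G]

omit hp [CharP K p] in
/-- Change of coordinates in the special linear group. -/
def conjRep (ρ : G →* SL(2, K)) (P : GL (Fin 2) K) : G →* SL(2, K) where
  toFun g := ⟨(P⁻¹).1 * (ρ g).1 * P.1, by
    rw [det_mul, det_mul, (ρ g).2, mul_one, ← det_mul, ← Units.val_mul, inv_mul_cancel,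
      Units.val_one, det_one]⟩
  map_one' := by
    apply Subtype.ext
    show (P⁻¹).1 * (ρ 1).1 * P.1 = 1
    rw [map_one, Matrix.SpecialLinearGroup.coe_one, mul_one, ← Units.val_mul, inv_mul_cancel,
      Units.val_one]
  map_mul' g h := by
    apply Subtype.ext
    show (P⁻¹).1 * (ρ (g * h)).1 * P.1 = ((P⁻¹).1 * (ρ g).1 * P.1) * ((P⁻¹).1 * (ρ h).1 * P.1)
    rw [map_mul, Matrix.SpecialLinearGroup.coe_mul]
    simp [mul_assoc]

omit hp [CharP K p] in
theorem conjRep_val (ρ : G →* SL(2, K)) (P : GL (Fin 2) K) (g : G) :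
    (conjRep ρ P g).1 = (P⁻¹).1 * (ρ g).1 * P.1 := rfl

omit hp [CharP K p] in
theorem conjRep_injective {ρ : G →* SL(2, K)} (hρ : Function.Injective ρ) (P : GL (Fin 2) K) :
    Function.Injective (conjRep ρ P) := fun g h e => by
  refine hρ (Subtype.ext ?_)
  have e' := congrArg (fun M : SL(2, K) => P.1 * M.1 * (P⁻¹).1) e
  simpa [conjRep_val, mul_assoc] using e'

omit hp [CharP K p] in
/-- Normal form of a pair of non-commuting transvections. -/
theorem exists_rep (ρ : G →* SL(2, K)) (hρ : Function.Injective ρ) {x y : G}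
    (hx : ((ρ x).1 - 1) * ((ρ x).1 - 1) = 0) (hy : ((ρ y).1 - 1) * ((ρ y).1 - 1) = 0)
    (hne : x * y ≠ y * x) :
    ∃ (P : GL (Fin 2) K) (R : SL2Rep K p G), R.ρ = conjRep ρ P ∧
      R.a = (((ρ x).1 - 1) * ((ρ y).1 - 1)).trace := by
  set N := (ρ x).1 - 1 with hN
  set M := (ρ y).1 - 1 with hM
  have hMN : M * N ≠ 0 := by
    intro h0
    have hNM : N * M ≠ 0 := by
      intro h1
      refine hne (hρ (Subtype.ext ?_))
      rw [map_mul, map_mul, Matrix.SpecialLinearGroup.coe_mul, Matrix.SpecialLinearGroup.coe_mul,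
        show (ρ x).1 = 1 + N by rw [hN]; abel, show (ρ y).1 = 1 + M by rw [hM]; abel]
      simp [mul_add, add_mul, h0, h1]
      abel
    have := (exists_basis hy hx hNM).1
    rw [h0, Matrix.trace_zero] at this
    exact this rfl
  obtain ⟨ht, P, hPN, hPM⟩ := exists_basis hx hy hMN
  refine ⟨P, ⟨conjRep ρ P, conjRep_injective hρ P, x, y, _, ht, ?_, ?_⟩, rfl, rfl⟩
  · apply Subtype.ext
    rw [conjRep_val, upperUni_val, show (ρ x).1 = 1 + N by rw [hN]; abel, mul_add, mul_one,
      add_mul, ← Units.val_mul, inv_mul_cancel, Units.val_one, mul_assoc, hPN, ← mul_assoc,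
      ← Units.val_mul, inv_mul_cancel, Units.val_one, one_mul]
    ext i j
    fin_cases i <;> fin_cases j <;> simp
  · apply Subtype.ext
    rw [conjRep_val, lowerUni_val, show (ρ y).1 = 1 + M by rw [hM]; abel, mul_add, mul_one,
      add_mul, ← Units.val_mul, inv_mul_cancel, Units.val_one, mul_assoc, hPM, ← mul_assoc,
      ← Units.val_mul, inv_mul_cancel, Units.val_one, one_mul]
    ext i j
    fin_cases i <;> fin_cases j <;> simp

/-- Once an upper transvection with parameter in the prime field is present, `SL₂(p)` is. -/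
theorem exists_hom_of_natCast (R : SL2Rep K p G) {v : G} {m : ℕ} (hm : (m : K) ≠ 0)
    (hv : R.ρ v = upperUni (m : K)) :
    ∃ φ : SL(2, ZMod p) →* G, Function.Injective φ ∧
      ∀ M, R.ρ (φ M) = Matrix.SpecialLinearGroup.map (ZMod.castHom dvd_rfl K) M := by
  set ι := Matrix.SpecialLinearGroup.map (n := Fin 2) (ZMod.castHom (dvd_refl p) K) with hι
  have hιi : Function.Injective ι := fun A B h => by
    apply Subtype.ext
    ext i j
    exact (ZMod.castHom (dvd_refl p) K).injective (congrArg (fun C : SL(2, K) => C.1 i j) h)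
  have hmp : (m : ZMod p) ≠ 0 := fun h => hm (by
    rw [← map_natCast (ZMod.castHom (dvd_refl p) K), h, map_zero])
  have hu1 : CfsgLib.FusionEssential.upperM 1 ∈ R.ρ.range.comap ι := by
    refine ⟨v ^ ((m : ZMod p)⁻¹).val, ?_⟩
    rw [map_pow, hv, upperUni_pow]
    apply Subtype.ext
    rw [upperUni_val, hι, Matrix.SpecialLinearGroup.map_apply_coe,
      CfsgLib.FusionEssential.coe_upperM]
    have h1 : (((m : ZMod p)⁻¹).val : K) * (m : K) = 1 := by
      rw [← map_natCast (ZMod.castHom (dvd_refl p) K) ((m : ZMod p)⁻¹).val, ZMod.natCast_zmod_val,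
        ← map_natCast (ZMod.castHom (dvd_refl p) K) m, ← map_mul, inv_mul_cancel₀ hmp, map_one]
    ext i j
    fin_cases i <;> fin_cases j <;> simp [h1, -ZMod.natCast_val]
  have hl1 : CfsgLib.FusionEssential.lowerM 1 ∈ R.ρ.range.comap ι := by
    refine ⟨R.l, ?_⟩
    apply Subtype.ext
    rw [R.hl, lowerUni_val, hι, Matrix.SpecialLinearGroup.map_apply_coe,
      CfsgLib.FusionEssential.coe_lowerM]
    ext i j
    fin_cases i <;> fin_cases j <;> simp
  have htop := CfsgLib.FusionEssential.sl_two_le_of_upper_lower (one_ne_zero) hu1 hl1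
  have hr : ∀ M, ι M ∈ R.ρ.range := fun M => mem_comap.mp (htop ▸ mem_top M)
  choose φ hφ using fun M => MonoidHom.mem_range.mp (hr M)
  refine ⟨MonoidHom.mk' φ fun A B => R.inj (by rw [map_mul, hφ, hφ, hφ, map_mul]), ?_, hφ⟩
  intro A B h
  exact hιi (by rw [← hφ, ← hφ]; exact congrArg R.ρ h)

variable [Finite G]

namespace SL2Rep

theorem card_zc_le_two (R : SL2Rep K p G) : Nat.card ↥R.zc ≤ 2 := by
  have hle : Nat.card ↥R.zc ≤ Nat.card ↥({1, -1} : Set SL(2, K)) :=
    Nat.card_le_card_of_injective (fun y => ⟨R.ρ y, R.mem_zc.mp y.2⟩)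
      (fun y y' h => Subtype.ext (R.inj (congrArg Subtype.val h)))
  refine hle.trans ?_
  rw [Nat.card_coe_set_eq]
  exact (Set.ncard_insert_le _ _).trans (by rw [Set.ncard_singleton])

theorem exists_upper_one (hp2 : p ≠ 2) (R : SL2Rep K p G)
    (hn : R.bor.index = Nat.card ↥R.A + 1) : ∃ v : G, R.ρ v = upperUni ((1 : ℕ) : K) := by
  classical
  have h2 : (2 : K) ≠ 0 := two_ne_zero_of_odd hp2
  have hne : ∀ a : ↥R.A,
      (QuotientGroup.mk ((a : G) * R.l) : G ⧸ R.bor) ≠ QuotientGroup.mk 1 := by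
    intro a h
    rw [QuotientGroup.eq, mul_one] at h
    obtain ⟨b, hb⟩ := R.mem_A.mp a.2
    have h1 := inv_mem h
    rw [inv_inv, R.mem_bor, map_mul, hb, R.hl, Matrix.SpecialLinearGroup.coe_mul, upperUni_val,
      lowerUni_val] at h1
    simp at h1
  let f : ↥R.A → {c : G ⧸ R.bor // c ≠ QuotientGroup.mk 1} := fun a => ⟨_, hne a⟩
  have hf : Function.Injective f := by
    intro a a' h
    have h1 : (QuotientGroup.mk ((a : G) * R.l) : G ⧸ R.bor) = QuotientGroup.mk ((a' : G) * R.l) :=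
      congrArg Subtype.val h
    obtain ⟨b, hb⟩ := R.mem_A.mp a.2
    obtain ⟨b', hb'⟩ := R.mem_A.mp a'.2
    rw [QuotientGroup.eq, R.mem_bor, map_mul, map_inv, map_mul, map_mul, hb, hb', R.hl, _root_.mul_inv_rev,
      upperUni_neg] at h1
    simp [Matrix.SpecialLinearGroup.coe_inv, adjugate_fin_two, upperUni_val, lowerUni_val,
      Matrix.mul_apply, Fin.sum_univ_two] at h1
    refine Subtype.ext (R.inj ?_)
    rw [hb, hb']
    congr 1
    linear_combination h1
  haveI := Fintype.ofFinite (G ⧸ R.bor)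
  haveI := Fintype.ofFinite ↥R.A
  have hcard : Fintype.card ↥R.A = Fintype.card {c : G ⧸ R.bor // c ≠ QuotientGroup.mk 1} := by
    rw [Fintype.card_subtype_compl, Fintype.card_subtype_eq, ← Nat.card_eq_fintype_card,
      ← Nat.card_eq_fintype_card, ← Subgroup.index_eq_card, hn]
    omega
  have hl2 : (QuotientGroup.mk (R.l * R.l) : G ⧸ R.bor) ≠ QuotientGroup.mk 1 := fun h => by
    rw [QuotientGroup.eq, mul_one] at h
    have h1 := inv_mem h
    rw [inv_inv, R.mem_bor, map_mul, R.hl, lowerUni_add, lowerUni_val] at h1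
    simp at h1
    exact h2 (by linear_combination h1)
  obtain ⟨a, ha⟩ := ((Fintype.bijective_iff_injective_and_card f).mpr ⟨hf, hcard⟩).2 ⟨_, hl2⟩
  have h1 : (QuotientGroup.mk ((a : G) * R.l) : G ⧸ R.bor) = QuotientGroup.mk (R.l * R.l) :=
    congrArg Subtype.val ha
  obtain ⟨b, hb⟩ := R.mem_A.mp a.2
  rw [QuotientGroup.eq, R.mem_bor, map_mul, map_inv, map_mul, map_mul, hb, R.hl, lowerUni_add,
    _root_.mul_inv_rev, upperUni_neg] at h1
  simp [Matrix.SpecialLinearGroup.coe_inv, adjugate_fin_two, upperUni_val, lowerUni_val,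
    Matrix.mul_apply, Fin.sum_univ_two] at h1
  refine ⟨((a : G) ^ 2)⁻¹, ?_⟩
  rw [map_inv, map_pow, hb, upperUni_pow, upperUni_neg]
  congr 1
  push_cast
  first
    | linear_combination h1
    | linear_combination -h1

theorem tr_eq_zero_of_sq_mem_zc (R : SL2Rep K p G) {y : G} (hy : y ∉ R.zc)
    (h : y ^ 2 ∈ R.zc) : R.tr y = 0 := by
  by_contra ht
  have hc := CfsgLib.SL2Trace.cayley (R.ρ y) (R.tr y) rfl
  rw [← Matrix.SpecialLinearGroup.coe_pow, ← map_pow] at hc
  rcases R.mem_zc.mp h with h1 | h1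
  · refine R.not_smul hy (2 / R.tr y) ?_
    rw [h1, Matrix.SpecialLinearGroup.coe_one, sub_add_eq_add_sub, sub_eq_zero] at hc
    have h5 : (2 : K) • (1 : Matrix (Fin 2) (Fin 2) K) = R.tr y • (R.ρ y).1 := by
      rw [two_smul]; exact hc
    rw [div_eq_inv_mul, ← smul_smul, h5, inv_smul_smul₀ ht]
  · refine R.not_smul hy 0 ?_
    rw [h1, coe_neg', Matrix.SpecialLinearGroup.coe_one] at hc
    have h6 : R.tr y • (R.ρ y).1 = 0 := by
      rw [← neg_eq_zero, ← hc]; abel
    rw [zero_smul]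
    exact (smul_eq_zero.mp h6).resolve_left ht

/-- The exceptional case. -/
theorem exists_pair_sixty (hp2 : p ≠ 2) (R : SL2Rep K p G) (hq : Nat.card ↥R.A = 3)
    (hG : Nat.card G = 60 * Nat.card ↥R.zc) {x : G} (hx : x ∈ R.semi)
    (hC : Nat.card ↥(R.cent x) = 2 * Nat.card ↥R.zc)
    (hN : Nat.card ↥(Subgroup.normalizer (R.cent x : Set G)) = 4 * Nat.card ↥R.zc)
    (hsemi : ∀ y ∈ R.semi, y ∈ R.fam x ∨ Nat.card ↥(R.cent y) = 5 * Nat.card ↥R.zc) :
    ∃ h v : G, h ^ p = 1 ∧ v ^ p = 1 ∧ h * v ≠ v * h ∧ R.tr (h * v⁻¹) = 0 := by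
  classical
  have h2 : (2 : K) ≠ 0 := two_ne_zero_of_odd hp2
  have hp3 : p = 3 := by
    have h1 : orderOf R.u = p := orderOf_eq_prime (R.pow_eq_one_of_mem_A R.u_mem_A) fun h =>
      R.u_not_zc h2 (h ▸ one_mem _)
    have h3 := orderOf_dvd_natCard (⟨R.u, R.u_mem_A⟩ : ↥R.A)
    rw [Subgroup.orderOf_mk, h1, hq] at h3
    exact (Nat.prime_dvd_prime_iff_eq hp.out Nat.prime_three).mp h3
  set N₁ := Subgroup.normalizer (R.cent x : Set G) with hN₁
  have hz : 0 < Nat.card ↥R.zc := Nat.card_pos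
  obtain ⟨w, hwx, -⟩ := (R.card_centralizer_le_normalizer h2 hx.1 hx.2).resolve_left
    (fun h => by rw [← hN₁, hN, hC] at h; omega)
  have hxx : x⁻¹ ≠ x := fun h => hx.2 (by
    have hxz : x ^ 2 ∈ R.zc := by
      rw [pow_two]; nth_rewrite 2 [← h]; rw [mul_inv_cancel]; exact one_mem _
    exfalso
    have hxt := R.tr_eq_zero_of_sq_mem_zc hx.1 hxz
    have hρ : R.ρ x ^ 2 = 1 := by
      rw [← map_pow, pow_two]; nth_rewrite 2 [← h]; rw [mul_inv_cancel, map_one]
    have hc := CfsgLib.SL2Trace.cayley (R.ρ x) (R.tr x) rfl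
    rw [← Matrix.SpecialLinearGroup.coe_pow, hρ, hxt, zero_smul, sub_zero,
      Matrix.SpecialLinearGroup.coe_one] at hc
    have := congrFun (congrFun hc 0) 0
    simp at this
    exact h2 (by linear_combination this))
  -- the elements of the centralizer square into the scalars
  have hCsq : ∀ y ∈ R.cent x, y ^ 2 ∈ R.zc := by
    intro y hy
    have hidx : (R.zc.subgroupOf (R.cent x)).index = 2 := by
      have h := Subgroup.card_mul_index (R.zc.subgroupOf (R.cent x))
      rw [Nat.card_congr (Subgroup.subgroupOfEquivOfLe (R.zc_le_cent x)).toEquiv, hC,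
        mul_comm 2] at h
      exact Nat.eq_of_mul_eq_mul_left hz h
    have := Subgroup.sq_mem_of_index_two hidx ⟨y, hy⟩
    simpa [mem_subgroupOf] using this
  -- elements outside it in the normalizer square into the scalars
  have hsq : ∀ y ∈ N₁, y ^ 2 ∈ R.zc := by
    intro y hy
    by_cases hyC : y ∈ R.cent x
    · exact hCsq y hyC
    have hinv : y * x * y⁻¹ = x⁻¹ := by
      rcases R.conj_eq_or_eq_inv h2 hx.1 hx.2
        ((mem_normalizer_iff.mp hy x).mp (R.self_mem_cent x)) with h | h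
      · exact absurd (R.mem_cent.mpr (mul_inv_eq_iff_eq_mul.mp h)) hyC
      · exact h
    have hy2 : y ^ 2 ∈ R.cent x := R.mem_cent.mpr (mul_inv_eq_iff_eq_mul.mp (by
      calc y ^ 2 * x * (y ^ 2)⁻¹ = y * (y * x * y⁻¹) * y⁻¹ := by rw [pow_two]; group
        _ = y * x⁻¹ * y⁻¹ := by rw [hinv]
        _ = (y * x * y⁻¹)⁻¹ := by group
        _ = x := by rw [hinv, inv_inv]))
    by_contra hyz
    refine hyC ?_
    rw [← R.cent_eq_of_mem hx.1 hy2 hyz]
    exact R.mem_cent.mpr (by group)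
  have hwN : w ∈ N₁ := by
    rw [hN₁, ← R.conj_cent_eq_iff, ← R.cent_conj, hwx]
    exact R.cent_eq_of_mem hx.1 (inv_mem (R.self_mem_cent x))
      (fun h => hx.1 (inv_mem_iff.mp h))
  have hwC : w ∉ R.cent x := fun h => hxx (by
    rw [← hwx, R.mem_cent.mp h, mul_inv_cancel_right])
  have hwz : w ∉ R.zc := fun h => hwC (R.zc_le_cent x h)
  have hws : w ∈ R.semi := ⟨hwz, by
    rw [R.tr_eq_zero_of_sq_mem_zc hwz (hsq w hwN), zero_pow two_ne_zero]
    intro h4
    exact h2 (mul_self_eq_zero.mp (by linear_combination -h4))⟩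
  -- `C(w)` is conjugate to `C(x)`
  obtain ⟨g, hg⟩ : ∃ g, R.cent w = (R.cent x).map (MulAut.conj g).toMonoidHom := by
    rcases hsemi w hws with h | h
    · exact h.2
    exfalso
    -- `w` has order two modulo scalars
    set Z := R.zc.subgroupOf (R.cent w) with hZ
    haveI : Z.Normal := ⟨fun n hn g => by
      rw [hZ, mem_subgroupOf] at hn ⊢
      exact R.conj_mem_zc hn⟩
    have h5 : Nat.card (↥(R.cent w) ⧸ Z) = 5 := by
      have h' := Subgroup.card_eq_card_quotient_mul_card_subgroup Z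
      rw [Nat.card_congr (Subgroup.subgroupOfEquivOfLe (R.zc_le_cent w)).toEquiv, h] at h'
      exact Nat.eq_of_mul_eq_mul_right hz h'.symm
    let wq : ↥(R.cent w) ⧸ Z := QuotientGroup.mk ⟨w, R.self_mem_cent w⟩
    have hw2 : wq ^ 2 = 1 := by
      rw [← QuotientGroup.mk_pow, QuotientGroup.eq_one_iff]
      exact hsq w hwN
    have hw1 : wq = 1 := by
      have hd := orderOf_dvd_natCard wq
      have hd' := orderOf_dvd_of_pow_eq_one hw2
      rw [h5] at hd
      exact orderOf_eq_one_iff.mp (Nat.eq_one_of_dvd_coprimes (by norm_num) hd' hd)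
    exact hwz (mem_subgroupOf.mp ((QuotientGroup.eq_one_iff (N := Z) _).mp hw1))
  have hxz2 : x ^ 2 ∈ R.zc := hCsq x (R.self_mem_cent x)
  -- `N(C(w)) = N(C(x))`
  have hxNw : x ∈ Subgroup.normalizer (R.cent w : Set G) := by
    rw [← R.conj_cent_eq_iff, ← R.cent_conj]
    have hwx' : w * x⁻¹ = x * w := by
      calc w * x⁻¹ = (w * x * w⁻¹)⁻¹ * w := by group
        _ = x * w := by rw [hwx, inv_inv]
    have e : x * w * x⁻¹ = x ^ 2 * w := by rw [mul_assoc, hwx', pow_two, mul_assoc]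
    refine R.cent_eq_of_mem hwz ?_ (fun h => hwz (R.conj_mem_zc_iff.mp h))
    rw [e]
    exact mul_mem (R.zc_le_cent w hxz2) (R.self_mem_cent w)
  have hCle : R.cent x ≤ Subgroup.normalizer (R.cent w : Set G) := by
    intro y hy
    have hidx : (R.zc.subgroupOf (R.cent x)).index = 2 := by
      have h := Subgroup.card_mul_index (R.zc.subgroupOf (R.cent x))
      rw [Nat.card_congr (Subgroup.subgroupOfEquivOfLe (R.zc_le_cent x)).toEquiv, hC,
        mul_comm 2] at h
      exact Nat.eq_of_mul_eq_mul_left hz h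
    by_cases hyz : y ∈ R.zc
    · exact le_normalizer (R.zc_le_cent w hyz)
    · have h1 : (⟨x, R.self_mem_cent x⟩ : ↥(R.cent x)) * ⟨y, hy⟩ ∈ R.zc.subgroupOf (R.cent x) :=
        (Subgroup.mul_mem_iff_of_index_two hidx).mpr (by simp [mem_subgroupOf, hx.1, hyz])
      rw [mem_subgroupOf] at h1
      have := mul_mem (inv_mem hxNw) (le_normalizer (R.zc_le_cent w h1))
      simpa using this
  have hN1eq : N₁ = Subgroup.normalizer (R.cent w : Set G) := by
    have hle : R.cent x ⊔ Subgroup.zpowers w ≤ N₁ :=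
      sup_le le_normalizer (zpowers_le.mpr hwN)
    have hlt : R.cent x < R.cent x ⊔ Subgroup.zpowers w := lt_of_le_of_ne le_sup_left fun e =>
      hwC (e ▸ mem_sup_right (mem_zpowers w))
    have heq : R.cent x ⊔ Subgroup.zpowers w = N₁ := by
      refine eq_of_le_of_card_ge hle ?_
      have h1 := card_dvd_of_le hlt.le
      obtain ⟨j, hj⟩ := h1
      have h3 : Nat.card ↥(R.cent x) < Nat.card ↥(R.cent x ⊔ Subgroup.zpowers w) :=
        (card_le_of_le hlt.le).lt_of_ne fun e => hlt.ne (eq_of_le_of_card_ge hlt.le e.ge)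
      have hj2 : 2 ≤ j := by
        by_contra hj'
        interval_cases j <;> omega
      rw [hN, hj, hC]
      have := Nat.mul_le_mul_left (2 * Nat.card ↥R.zc) hj2
      omega
    refine eq_of_le_of_card_ge (heq ▸ sup_le hCle (zpowers_le.mpr (le_normalizer
      (R.self_mem_cent w)))) ?_
    rw [hg, show Subgroup.normalizer (((R.cent x).map (MulAut.conj g).toMonoidHom : Subgroup G) :
      Set G) = N₁.map (MulAut.conj g).toMonoidHom from
      (Subgroup.map_equiv_normalizer_eq _ (MulAut.conj g)).symm,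
      Subgroup.card_map_of_injective (MulAut.conj g).injective]
  -- an element of order three normalizing `N₁`
  set N₂ := Subgroup.normalizer (N₁ : Set G) with hN₂
  have hgN₂ : g ∈ N₂ := by
    rw [hN₂, mem_normalizer_iff_map_conj_eq]
    have h1 : N₁.map (MulAut.conj g).toMonoidHom =
        Subgroup.normalizer (((R.cent x).map (MulAut.conj g).toMonoidHom : Subgroup G) : Set G) :=
      Subgroup.map_equiv_normalizer_eq _ (MulAut.conj g)
    exact h1.trans (by rw [← hg, ← hN1eq])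
  have hgN₁ : g ∉ N₁ := fun h => hwC (by
    have h1 := (R.conj_cent_eq_iff g x).mpr h
    rw [← hg] at h1
    exact h1 ▸ R.self_mem_cent w)
  have hle12 : N₁ ≤ N₂ := le_normalizer
  obtain ⟨j, hj⟩ : Nat.card ↥N₁ ∣ Nat.card ↥N₂ := card_dvd_of_le hle12
  have hj15 : j ∣ 15 := by
    have h1 := card_subgroup_dvd_card N₂
    rw [hG, hj, hN] at h1
    rw [show 60 * Nat.card ↥R.zc = 4 * Nat.card ↥R.zc * 15 by ring] at h1
    exact Nat.dvd_of_mul_dvd_mul_left (by omega) h1
  have hj1 : j ≠ 1 := fun h => hgN₁ ((eq_of_le_of_card_ge hle12 (by rw [hj, h, mul_one])).symm ▸ hgN₂)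
  -- nontrivial conjugation fixing `C(x)` comes from `N₁`
  have hfix : ∀ e : G, e * x * e⁻¹ ∈ R.cent x → e ∈ N₁ := fun e he => by
    rw [hN₁, ← R.conj_cent_eq_iff, ← R.cent_conj]
    exact R.cent_eq_of_mem hx.1 he fun h => hx.1 (R.conj_mem_zc_iff.mp h)
  have h3 : 3 ∣ Nat.card ↥N₂ := by
    by_contra h3
    have hj5 : j = 5 := by
      have hle : j ≤ 15 := Nat.le_of_dvd (by norm_num) hj15
      rcases Nat.eq_zero_or_pos j with h0 | h0
      · rw [h0] at hj15; simp at hj15
      have h3j : ¬ 3 ∣ j := fun h => h3 (hj ▸ Dvd.dvd.mul_left h _)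
      interval_cases j <;> omega
    haveI : Fact (Nat.Prime 5) := ⟨by norm_num⟩
    obtain ⟨e, he⟩ := exists_prime_orderOf_dvd_card' 5 (by rw [hj, hj5]; exact dvd_mul_left 5 _ :
      5 ∣ Nat.card ↥N₂)
    set Z := R.zc.subgroupOf N₁ with hZ
    have hcZ : Nat.card (↥N₁ ⧸ Z) = 4 := by
      have h' := Subgroup.card_eq_card_quotient_mul_card_subgroup Z
      rw [Nat.card_congr (Subgroup.subgroupOfEquivOfLe
        ((R.zc_le_cent x).trans le_normalizer)).toEquiv, hN] at h'
      exact Nat.eq_of_mul_eq_mul_right hz h'.symm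
    let f : Fin 5 → ↥N₁ ⧸ Z := fun i => QuotientGroup.mk
      ⟨((e ^ (i : ℕ) : ↥N₂) : G) * x * ((e ^ (i : ℕ) : ↥N₂) : G)⁻¹,
        (mem_normalizer_iff.mp (e ^ (i : ℕ)).2 x).mp (le_normalizer (R.self_mem_cent x))⟩
    have hf : Function.Injective f := by
      intro a b hab
      rw [QuotientGroup.eq, mem_subgroupOf] at hab
      simp only [Subgroup.coe_mul, InvMemClass.coe_inv] at hab
      set ea := ((e ^ (a : ℕ) : ↥N₂) : G) with hea
      set eb := ((e ^ (b : ℕ) : ↥N₂) : G) with heb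
      have hm : (ea⁻¹ * eb) ∈ N₁ := by
        refine hfix _ ?_
        have h' : x⁻¹ * (ea⁻¹ * eb * x * (ea⁻¹ * eb)⁻¹) ∈ R.zc := by
          have h'' := R.conj_mem_zc (g := ea⁻¹) hab
          convert h'' using 1
          group
        have := mul_mem (R.self_mem_cent x) (R.zc_le_cent x h')
        rwa [mul_inv_cancel_left] at this
      have hd : orderOf ((e ^ (a : ℕ))⁻¹ * e ^ (b : ℕ)) ∣ Nat.card ↥N₁ := by
        rw [← Subgroup.orderOf_coe]
        simp only [Subgroup.coe_mul, InvMemClass.coe_inv]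
        have := orderOf_dvd_natCard (⟨_, hm⟩ : ↥N₁)
        rwa [Subgroup.orderOf_mk] at this
      have hd5 : orderOf ((e ^ (a : ℕ))⁻¹ * e ^ (b : ℕ)) ∣ 5 := by
        refine orderOf_dvd_of_pow_eq_one ?_
        have he5 : e ^ 5 = 1 := he ▸ pow_orderOf_eq_one e
        rw [(((Commute.refl e).pow_pow _ _).inv_left).mul_pow, inv_pow, ← pow_mul, ← pow_mul,
          mul_comm (a : ℕ), mul_comm (b : ℕ), pow_mul, pow_mul, he5, one_pow, one_pow, inv_one,
          one_mul]
      have h1 : orderOf ((e ^ (a : ℕ))⁻¹ * e ^ (b : ℕ)) = 1 := by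
        rcases (Nat.dvd_prime (by norm_num)).mp hd5 with h | h
        · exact h
        · rw [h, hN] at hd
          exfalso
          have hle2 := R.card_zc_le_two
          interval_cases hzz : Nat.card ↥R.zc <;> norm_num at hd
      have hpe : e ^ (a : ℕ) = e ^ (b : ℕ) := inv_mul_eq_one.mp (orderOf_eq_one_iff.mp h1)
      have := pow_inj_mod.mp hpe
      rw [he, Nat.mod_eq_of_lt a.2, Nat.mod_eq_of_lt b.2] at this
      exact Fin.ext this
    have := Nat.card_le_card_of_injective f hf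
    rw [hcZ, Nat.card_fin] at this
    omega
  haveI : Fact (Nat.Prime 3) := ⟨Nat.prime_three⟩
  obtain ⟨⟨e, heN⟩, he⟩ := exists_prime_orderOf_dvd_card' 3 h3
  rw [Subgroup.orderOf_mk] at he
  have he3 : e ^ 3 = 1 := he ▸ pow_orderOf_eq_one e
  have heN₁ : e ∉ N₁ := fun h => by
    have hd := orderOf_dvd_natCard (⟨e, h⟩ : ↥N₁)
    rw [Subgroup.orderOf_mk, he, hN] at hd
    have hle := R.card_zc_le_two
    interval_cases hzz : Nat.card ↥R.zc <;> norm_num at hd
  -- the pair `e`, `x e x⁻¹`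
  set y := e * (x * e * x⁻¹)⁻¹ with hy
  have hyN : y ∈ N₁ := by
    have hxN : x ∈ N₁ := le_normalizer (R.self_mem_cent x)
    have h1 := mul_mem ((mem_normalizer_iff.mp heN x).mp hxN) (inv_mem hxN)
    convert h1 using 1
    rw [hy]; group
  have hyz : y ∉ R.zc := fun h => heN₁ (hfix e (by
    have h1 : e * x * e⁻¹ = y * x := by rw [hy]; group
    rw [h1]
    exact mul_mem (R.zc_le_cent x h) (R.self_mem_cent x)))
  refine ⟨e, x * e * x⁻¹, by rw [hp3, he3], by rw [hp3, conj_pow, he3, mul_one, mul_inv_cancel],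
    fun hcomm => hyz ?_, R.tr_eq_zero_of_sq_mem_zc hyz (hsq y hyN)⟩
  have hy3 : y ^ 3 = 1 := by
    have hc : Commute e (x * e * x⁻¹)⁻¹ := (show Commute e (x * e * x⁻¹) from hcomm).inv_right
    rw [hy, hc.mul_pow, he3, inv_pow, conj_pow, he3]; group
  have e1 : y = y ^ 3 * (y ^ 2)⁻¹ := by group
  rw [e1, hy3, one_mul]
  exact inv_mem (hsq y hyN)

end SL2Rep

/-- A finite subgroup of `SL₂(K)`, `char K = p` odd, with two non-commuting transvections contains,
in suitable coordinates, the matrices of `SL₂(p)`. -/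
theorem exists_sl2_hom (hp2 : p ≠ 2) (ρ : G →* SL(2, K)) (hρ : Function.Injective ρ) {x y : G}
    (hx : ((ρ x).1 - 1) * ((ρ x).1 - 1) = 0) (hy : ((ρ y).1 - 1) * ((ρ y).1 - 1) = 0)
    (hne : x * y ≠ y * x) :
    ∃ (P : GL (Fin 2) K) (φ : SL(2, ZMod p) →* G), Function.Injective φ ∧
      ∀ M, (ρ (φ M)).1 * P.1 = P.1 * (M.1.map (ZMod.castHom (dvd_refl p) K)) := by
  have h2 : (2 : K) ≠ 0 := two_ne_zero_of_odd hp2
  suffices h : ∃ (P : GL (Fin 2) K) (R : SL2Rep K p G), R.ρ = conjRep ρ P ∧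
      ∃ (v : G) (m : ℕ), (m : K) ≠ 0 ∧ R.ρ v = upperUni (m : K) by
    obtain ⟨P, R, hR, v, m, hm, hv⟩ := h
    obtain ⟨φ, hφi, hφ⟩ := exists_hom_of_natCast R hm hv
    refine ⟨P, φ, hφi, fun M => ?_⟩
    have h1 := congrArg Subtype.val (hφ M)
    rw [hR, conjRep_val] at h1
    rw [Matrix.SpecialLinearGroup.map_apply_coe] at h1
    calc (ρ (φ M)).1 * P.1 = P.1 * ((P⁻¹).1 * (ρ (φ M)).1 * P.1) := by
          simp [← mul_assoc]
      _ = _ := by rw [h1]; rfl
  obtain ⟨P, R, hR, -⟩ := exists_rep (p := p) ρ hρ hx hy hne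
  rcases R.dichotomy hp2 with hn | ⟨hq, hG, w, hw, hC, hN, hs⟩
  · obtain ⟨v, hv⟩ := R.exists_upper_one hp2 hn
    exact ⟨P, R, hR, v, 1, by simp, hv⟩
  · obtain ⟨h, v, hh, hv, hhv, htr⟩ := R.exists_pair_sixty hp2 hq hG hw hC hN hs
    have key : ∀ g : G, g ^ p = 1 → ((ρ g).1 - 1) * ((ρ g).1 - 1) = 0 := fun g hg => by
      refine sq_eq_zero_of_pow (m := p) ?_
      rw [sub_pow_char_of_commute p (Commute.one_right _), one_pow,
        ← Matrix.SpecialLinearGroup.coe_pow, ← map_pow, hg, map_one,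
        Matrix.SpecialLinearGroup.coe_one, sub_self]
    obtain ⟨P', R', hR', ha⟩ := exists_rep (p := p) ρ hρ (key h hh) (key v hv) hhv
    refine ⟨P', R', hR', R'.u, 2, by exact_mod_cast h2, ?_⟩
    rw [R'.hu, ha]
    congr 1
    rw [SL2Rep.tr, hR, conjRep_val, Matrix.trace_mul_cycle, ← Units.val_mul, mul_inv_cancel,
      Units.val_one, one_mul, map_mul, map_inv, Matrix.SpecialLinearGroup.coe_mul,
      Matrix.SpecialLinearGroup.coe_inv, adjugate_fin_two] at htr
    have th := trace_eq_two (key h hh)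
    have tv := trace_eq_two (key v hv)
    simp [Matrix.trace_fin_two, Matrix.mul_apply, Fin.sum_univ_two] at htr th tv ⊢
    linear_combination -htr + th - tv + ((ρ h).1 0 0 + (ρ h).1 1 1) * tv

end CfsgLib.LocalEven.SL2T
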