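import Cfsg.Agent.LocalEven.SL2Transvections.Basic

/-!
# Finite subgroups of `SL₂(K)` containing two transvections: the unipotent elements

`A` is a Sylow `p`-subgroup, every element of trace `±2` centralizes a conjugate of it, and the
Borel subgroup is the normalizer of the centralizer of `u`.
-/

set_option autoImplicit false

namespace CfsgLib.LocalEven.SL2T

open Matrix Subgroup CfsgLib.Linear
open scoped MatrixGroups

variable {K : Type*} [Field K] {p : ℕ} [hp : Fact p.Prime] [CharP K p]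
  {G : Type*} [Group G] (R : SL2Rep K p G)

omit hp in
theorem two_ne_zero_of_odd [Fact p.Prime] (hp2 : p ≠ 2) : (2 : K) ≠ 0 :=
  Ring.two_ne_zero (by rw [ringChar.eq K p]; exact hp2)

namespace SL2Rep

/-- Elements of `p`-power order give transvections. -/
theorem sub_sq_eq_zero_of_pow {x : G} {k : ℕ} (h : x ^ p ^ k = 1) :
    ((R.ρ x).1 - 1) * ((R.ρ x).1 - 1) = 0 := by
  refine sq_eq_zero_of_pow (m := p ^ k) ?_
  rw [sub_pow_char_pow_of_commute p k (Commute.one_right _), one_pow,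
    ← Matrix.SpecialLinearGroup.coe_pow, ← map_pow, h, map_one, Matrix.SpecialLinearGroup.coe_one,
    sub_self]

theorem tr_eq_two_of_pow {x : G} {k : ℕ} (h : x ^ p ^ k = 1) : R.tr x = 2 :=
  trace_eq_two (R.sub_sq_eq_zero_of_pow h)

theorem pow_eq_one_of_mem_A {x : G} (hx : x ∈ R.A) : x ^ p = 1 := by
  obtain ⟨b, hb⟩ := R.mem_A.mp hx
  refine R.inj ?_
  rw [map_pow, hb, upperUni_pow, map_one, CharP.cast_eq_zero, zero_mul, upperUni_zero]

theorem isPGroup_A : IsPGroup p ↥R.A := fun x =>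
  ⟨1, Subtype.ext (by rw [pow_one, SubgroupClass.coe_pow, R.pow_eq_one_of_mem_A x.2]; rfl)⟩

theorem mem_A_of_pow (hp2 : p ≠ 2) {x : G} {k : ℕ} (h : x ^ p ^ k = 1)
    (hx : x ∈ R.cent R.u) : x ∈ R.A := by
  obtain ⟨b, hb | hb⟩ := R.mem_cent_u.mp hx
  · exact R.mem_A.mpr ⟨b, hb⟩
  · exfalso
    have h2 := R.tr_eq_two_of_pow h
    rw [tr, hb, coe_neg', Matrix.trace_neg, upperUni_val, Matrix.trace_fin_two] at h2
    simp at h2
    have h4 : (2 : K) * 2 = 0 := by linear_combination -h2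
    exact two_ne_zero_of_odd hp2 (mul_self_eq_zero.mp h4)

theorem cent_eq_cent_u (hp2 : p ≠ 2) {y : G} (hy : y ∈ R.cent R.u) (hyz : y ∉ R.zc) :
    R.cent y = R.cent R.u :=
  R.cent_eq_of_mem (R.u_not_zc (two_ne_zero_of_odd hp2)) hy hyz

theorem sylow_eq_A [Finite G] (hp2 : p ≠ 2) (P : Sylow p G) (hP : R.A ≤ (P : Subgroup G)) :
    (P : Subgroup G) = R.A := by
  refine le_antisymm (fun x hx => ?_) hP
  have h2 : (2 : K) ≠ 0 := two_ne_zero_of_odd hp2
  have hne : Nontrivial ↥(P : Subgroup G) := (Subgroup.nontrivial_iff_ne_bot _).mpr fun h => by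
    have := hP R.u_mem_A
    rw [h, mem_bot] at this
    exact R.u_not_zc h2 (this ▸ one_mem _)
  haveI := P.isPGroup'.center_nontrivial
  obtain ⟨c, hc⟩ := exists_ne (1 : Subgroup.center ↥(P : Subgroup G))
  have hcomm : ∀ y ∈ (P : Subgroup G), y * (c : G) = (c : G) * y := fun y hy =>
    congrArg Subtype.val (Subgroup.mem_center_iff.mp c.2 ⟨y, hy⟩)
  obtain ⟨k, hk⟩ := P.isPGroup' c.1
  have hkc : ((c : ↥(P : Subgroup G)) : G) ^ p ^ k = 1 := by simpa using congrArg Subtype.val hk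
  have hcA : ((c : ↥(P : Subgroup G)) : G) ∈ R.A :=
    R.mem_A_of_pow hp2 hkc (R.mem_cent.mpr (hcomm R.u (hP R.u_mem_A)).symm)
  have hcz : ((c : ↥(P : Subgroup G)) : G) ∉ R.zc := fun h => by
    have h1 : ((c : ↥(P : Subgroup G)) : G) ∈ R.A ⊓ R.zc := ⟨hcA, h⟩
    rw [R.A_inf_zc h2, mem_bot] at h1
    exact hc (Subtype.ext (Subtype.ext h1))
  obtain ⟨j, hj⟩ := P.isPGroup' ⟨x, hx⟩
  have hjx : x ^ p ^ j = 1 := by simpa using congrArg Subtype.val hj
  refine R.mem_A_of_pow hp2 hjx ?_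
  rw [← R.cent_eq_cent_u hp2 (R.A_le_cent_u hcA) hcz]
  exact R.mem_cent.mpr (hcomm x hx)

/-- Every element of `p`-power order is conjugate into `A`. -/
theorem exists_conj_mem_A [Finite G] (hp2 : p ≠ 2) {x : G} {k : ℕ} (h : x ^ p ^ k = 1) :
    ∃ g, g * x * g⁻¹ ∈ R.A := by
  obtain ⟨P, hP⟩ := R.isPGroup_A.exists_le_sylow
  have hx : IsPGroup p ↥(Subgroup.zpowers x) :=
    IsPGroup.of_card_dvd_pow (n := k) (Nat.card_zpowers x ▸ orderOf_dvd_of_pow_eq_one h)
  obtain ⟨Q, hQ⟩ := hx.exists_le_sylow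
  obtain ⟨g, hg⟩ := MulAction.exists_smul_eq G Q P
  refine ⟨g, ?_⟩
  rw [← R.sylow_eq_A hp2 P hP, ← hg, Sylow.coe_subgroup_smul]
  exact ⟨x, hQ (mem_zpowers x), rfl⟩

theorem tr_sq_of_mem_cent_u {x : G} (hx : x ∈ R.cent R.u) : R.tr x ^ 2 = 4 := by
  obtain ⟨b, hb | hb⟩ := R.mem_cent_u.mp hx <;>
    simp [tr, hb, Matrix.trace_fin_two, upperUni_val] <;> ring

/-- The unipotent centralizers. -/
theorem exists_cent_conj [Finite G] (hp2 : p ≠ 2) {x : G} (hx : x ∉ R.zc) (ht : R.tr x ^ 2 = 4) :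
    ∃ g, R.cent x = (R.cent R.u).map (MulAut.conj g).toMonoidHom := by
  have h2 := two_ne_zero_of_odd (K := K) hp2
  obtain ⟨y, hyC, hyz, hy⟩ : ∃ y ∈ R.cent x, y ∉ R.zc ∧ y ^ p = 1 := by
    obtain ⟨ε, hε, he⟩ : ∃ ε : K, ε ^ 2 = 1 ∧ R.tr x = 2 * ε := by
      have h' : (R.tr x - 2) * (R.tr x + 2) = 0 := by linear_combination ht
      rcases mul_eq_zero.1 h' with h'' | h''
      · exact ⟨1, one_pow 2, by linear_combination h''⟩
      · exact ⟨-1, by ring, by linear_combination h''⟩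
    have hsq := CfsgLib.SL2Trace.sub_sq_eq_zero (R.ρ x) ε hε he
    have hN : ((R.ρ x).1 - ε • 1) ^ p = 0 := pow_eq_zero_of_le (Fact.out : p.Prime).two_le hsq
    have hc : Commute ((R.ρ x).1 - ε • 1) (ε • 1) := (Commute.one_right _).smul_right ε
    have hpow : (R.ρ x).1 ^ p = ε ^ p • 1 := by
      haveI : CharP (Matrix (Fin 2) (Fin 2) K) p := inferInstance
      have e := add_pow_char_of_commute p hc
      rw [sub_add_cancel, hN, zero_add, _root_.smul_pow, one_pow] at e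
      exact e
    rcases sq_eq_one_iff.mp hε with rfl | rfl
    · refine ⟨x, R.self_mem_cent x, hx, R.inj ?_⟩
      refine Subtype.ext ?_
      rw [map_pow, map_one, Matrix.SpecialLinearGroup.coe_pow, hpow, one_pow, one_smul]
      rfl
    · have hodd : Odd p := (Fact.out : p.Prime).odd_of_ne_two hp2
      have hzp : x ^ p ∈ R.zc := R.mem_zc.mpr (Or.inr (Subtype.ext (by
        rw [map_pow, Matrix.SpecialLinearGroup.coe_pow, hpow, hodd.neg_one_pow, neg_one_smul]
        rfl)))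
      have hxp : R.ρ (x ^ p) = -1 := Subtype.ext (by
        rw [map_pow, Matrix.SpecialLinearGroup.coe_pow, hpow, hodd.neg_one_pow, neg_one_smul]
        rfl)
      refine ⟨x * x ^ p, mul_mem (R.self_mem_cent x) (pow_mem (R.self_mem_cent x) p),
        fun h => hx (by simpa using mul_mem h (inv_mem hzp)), R.inj ?_⟩
      rw [map_pow, map_mul, hxp, map_one, mul_neg, mul_one, neg_pow, ← map_pow, hxp,
        hodd.neg_one_pow]
      simp
  obtain ⟨g, hg⟩ := R.exists_conj_mem_A hp2 (x := y) (k := 1) (by rwa [pow_one])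
  refine ⟨g⁻¹, ?_⟩
  have h1 := R.cent_eq_cent_u hp2 (R.A_le_cent_u hg) (fun h => hyz (R.conj_mem_zc_iff.mp h))
  rw [← R.cent_eq_of_mem hx hyC hyz, ← h1, ← R.cent_conj]
  congr 1
  group

/-- The Borel subgroup. -/
def bor : Subgroup G where
  carrier := {g | (R.ρ g).1 1 0 = 0}
  one_mem' := by simp
  mul_mem' {g h} hg hh := by
    simp only [Set.mem_setOf_eq] at hg hh ⊢
    rw [map_mul, Matrix.SpecialLinearGroup.coe_mul]
    simp [Matrix.mul_apply, Fin.sum_univ_two, hg, hh]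
  inv_mem' {g} hg := by
    simp only [Set.mem_setOf_eq] at hg ⊢
    rw [map_inv, Matrix.SpecialLinearGroup.coe_inv, adjugate_fin_two]
    simp [hg]

theorem mem_bor {g : G} : g ∈ R.bor ↔ (R.ρ g).1 1 0 = 0 := Iff.rfl

theorem conj_upper {g x : G} (hg : g ∈ R.bor) {b : K} (hb : R.ρ x = upperUni b) :
    R.ρ (g * x * g⁻¹) = upperUni ((R.ρ g).1 0 0 ^ 2 * b) := by
  have hd := (R.ρ g).2
  rw [det_fin_two, R.mem_bor.mp hg, mul_zero, sub_zero] at hd
  rw [map_mul, map_mul, map_inv, hb, mul_inv_eq_iff_eq_mul]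
  refine Subtype.ext ?_
  rw [Matrix.SpecialLinearGroup.coe_mul, Matrix.SpecialLinearGroup.coe_mul, upperUni_val,
    upperUni_val]
  ext i j
  fin_cases i <;> fin_cases j <;> simp [Matrix.mul_apply, Fin.sum_univ_two, R.mem_bor.mp hg]
  linear_combination -((R.ρ g).1 0 0 * b) * hd

theorem cent_u_le_bor : R.cent R.u ≤ R.bor := fun x hx => by
  obtain ⟨b, hb | hb⟩ := R.mem_cent_u.mp hx <;> simp [R.mem_bor, hb, upperUni_val]

theorem conj_mem_cent_u {g x : G} (hg : g ∈ R.bor) (hx : x ∈ R.cent R.u) :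
    g * x * g⁻¹ ∈ R.cent R.u := by
  obtain ⟨b, hb | hb⟩ := R.mem_cent_u.mp hx
  · exact R.mem_cent_u.mpr ⟨_, Or.inl (R.conj_upper hg hb)⟩
  · refine R.mem_cent_u.mpr ⟨(R.ρ g).1 0 0 ^ 2 * b, Or.inr ?_⟩
    have hd := (R.ρ g).2
    rw [det_fin_two, R.mem_bor.mp hg, mul_zero, sub_zero] at hd
    rw [map_mul, map_mul, map_inv, hb, mul_inv_eq_iff_eq_mul]
    refine Subtype.ext ?_
    rw [Matrix.SpecialLinearGroup.coe_mul, Matrix.SpecialLinearGroup.coe_mul, coe_neg', coe_neg',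
      upperUni_val, upperUni_val]
    ext i j
    fin_cases i <;> fin_cases j <;> simp [Matrix.mul_apply, Fin.sum_univ_two, R.mem_bor.mp hg]
    linear_combination ((R.ρ g).1 0 0 * b) * hd

theorem normalizer_cent_u (hp2 : p ≠ 2) :
    Subgroup.normalizer (R.cent R.u : Set G) = R.bor := by
  refine le_antisymm (fun g hg => ?_) fun g hg => ?_
  · obtain ⟨b, hb⟩ := R.mem_cent_u.mp ((mem_normalizer_iff.mp hg R.u).mp (R.self_mem_cent _))
    have h2 := two_ne_zero_of_odd (K := K) hp2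
    have ht : R.tr (g * R.u * g⁻¹) = 2 := by
      rw [R.tr_conj]
      simp [tr, R.hu, Matrix.trace_fin_two, upperUni_val]; ring
    rcases hb with hb | hb
    · rw [map_mul, map_mul, map_inv, R.hu, mul_inv_eq_iff_eq_mul] at hb
      have h1 := congrArg (fun M : SL(2, K) => M.1 1 1) hb
      simp [Matrix.mul_apply, Fin.sum_univ_two, upperUni_val, R.a_ne] at h1
      exact R.mem_bor.mpr h1
    · exfalso
      simp [tr, hb, Matrix.trace_fin_two, upperUni_val] at ht
      have h4 : (2 : K) * 2 = 0 := by linear_combination -ht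
      exact h2 (mul_self_eq_zero.mp h4)
  · refine mem_normalizer_iff.mpr fun x => ⟨R.conj_mem_cent_u hg, fun hx => ?_⟩
    simpa [mul_assoc] using R.conj_mem_cent_u (inv_mem hg) hx

end SL2Rep

end CfsgLib.LocalEven.SL2T
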